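import Mathlib

/-!
Covers of a finite group by proper nilpotent subgroups, minimal in number.

`MinimalNilpotentCover` packages the hypothesis used in statements S3890–S3894, S3925, S3926.
-/

set_option autoImplicit false

namespace CfsgLib.NilpotentCover

variable {G : Type*} [Group G]

/-- A family of proper subgroups covering `G`, of least cardinality, with nilpotent members. -/
abbrev MinimalNilpotentCover (𝓐 : Finset (Subgroup G)) : Prop :=
  ((∀ A ∈ 𝓐, A ≠ ⊤) ∧ (∀ g : G, ∃ A ∈ 𝓐, g ∈ A)) ∧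
    (∀ 𝓑 : Finset (Subgroup G),
      (∀ A ∈ 𝓑, A ≠ ⊤) ∧ (∀ g : G, ∃ A ∈ 𝓑, g ∈ A) → 𝓐.card ≤ 𝓑.card) ∧
    (∀ A ∈ 𝓐, Group.IsNilpotent ↥A)

/-- A proper subgroup contains at most one member of a cover of least cardinality. -/
theorem eq_of_le_proper {𝓐 : Finset (Subgroup G)} (h : MinimalNilpotentCover 𝓐)
    {M A B : Subgroup G} (hM : M ≠ ⊤) (hA : A ∈ 𝓐) (hB : B ∈ 𝓐) (hAM : A ≤ M) (hBM : B ≤ M) :
    A = B := by
  classical
  by_contra hne
  obtain ⟨⟨hprop, hcov⟩, hmin, -⟩ := h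
  let 𝓑 := insert M ((𝓐.erase A).erase B)
  have h1 : (∀ C ∈ 𝓑, C ≠ ⊤) ∧ (∀ g : G, ∃ C ∈ 𝓑, g ∈ C) := by
    refine ⟨?_, ?_⟩
    · intro C hC
      rcases Finset.mem_insert.1 hC with rfl | hC
      · exact hM
      · exact hprop C (Finset.mem_of_mem_erase (Finset.mem_of_mem_erase hC))
    · intro g
      obtain ⟨C, hC, hgC⟩ := hcov g
      by_cases hCA : C = A
      · exact ⟨M, Finset.mem_insert_self _ _, hAM (hCA ▸ hgC)⟩
      by_cases hCB : C = B
      · exact ⟨M, Finset.mem_insert_self _ _, hBM (hCB ▸ hgC)⟩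
      exact ⟨C, Finset.mem_insert_of_mem
        (Finset.mem_erase.2 ⟨hCB, Finset.mem_erase.2 ⟨hCA, hC⟩⟩), hgC⟩
  have h2 := hmin 𝓑 h1
  have hB' : B ∈ 𝓐.erase A := Finset.mem_erase.2 ⟨Ne.symm hne, hB⟩
  have h3 : 𝓑.card ≤ ((𝓐.erase A).erase B).card + 1 := Finset.card_insert_le _ _
  rw [Finset.card_erase_of_mem hB', Finset.card_erase_of_mem hA] at h3
  have h4 : 2 ≤ 𝓐.card := Finset.one_lt_card.2 ⟨A, hA, B, hB, hne⟩
  omega

/-- If two elements of a proper subgroup `M` lie in no common nilpotent subgroup, while every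
nilpotent subgroup containing one of them lies in `M`, then no cover of least cardinality has
nilpotent members. -/
theorem not_exists_of_pair {M : Subgroup G} (hM : M ≠ ⊤) (x y : G)
    (hx : ∀ A : Subgroup G, Group.IsNilpotent ↥A → x ∈ A → A ≤ M)
    (hy : ∀ A : Subgroup G, Group.IsNilpotent ↥A → y ∈ A → A ≤ M)
    (hxy : ∀ A : Subgroup G, Group.IsNilpotent ↥A → x ∈ A → y ∉ A) :
    ¬ ∃ 𝓐 : Finset (Subgroup G), MinimalNilpotentCover 𝓐 := by
  rintro ⟨𝓐, h⟩
  obtain ⟨A, hA, hxA⟩ := h.1.2 x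
  obtain ⟨B, hB, hyB⟩ := h.1.2 y
  have hAn := h.2.2 A hA
  have hBn := h.2.2 B hB
  have hAB : A = B := eq_of_le_proper h hM hA hB (hx A hAn hxA) (hy B hBn hyB)
  exact hxy A hAn hxA (hAB ▸ hyB)

/-- In a finite nilpotent group elements of coprime orders commute. -/
theorem commute_of_coprime {N : Type*} [Group N] [Finite N] [Group.IsNilpotent N] (x y : N)
    (h : (orderOf x).Coprime (orderOf y)) : Commute x y := by
  -- prime power case
  have key : ∀ (p q : ℕ), p.Prime → q.Prime → p ≠ q → ∀ a b : N,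
      (∃ i, orderOf a = p ^ i) → (∃ j, orderOf b = q ^ j) → Commute a b := by
    intro p q hp hq hpq a b ⟨i, hi⟩ ⟨j, hj⟩
    have := Fact.mk hp
    have := Fact.mk hq
    have hPa : IsPGroup p ↥(Subgroup.zpowers a) := by
      apply IsPGroup.of_card (n := i); rw [Nat.card_zpowers, hi]
    have hPb : IsPGroup q ↥(Subgroup.zpowers b) := by
      apply IsPGroup.of_card (n := j); rw [Nat.card_zpowers, hj]
    obtain ⟨P, hP⟩ := hPa.exists_le_sylow
    obtain ⟨Q, hQ⟩ := hPb.exists_le_sylow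
    exact Subgroup.commute_of_normal_of_disjoint _ _ inferInstance inferInstance
      (IsPGroup.disjoint_of_ne p q hpq _ _ P.isPGroup' Q.isPGroup') a b
      (hP (Subgroup.mem_zpowers a)) (hQ (Subgroup.mem_zpowers b))
  -- one prime power against arbitrary coprime
  have key2 : ∀ (n : ℕ) (p : ℕ), p.Prime → ∀ a b : N, (∃ i, orderOf a = p ^ i) →
      orderOf b = n → ¬ p ∣ n → Commute a b := by
    intro n
    induction n using Nat.recOnPosPrimePosCoprime with
    | prime_pow q k hq hk =>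
        intro p hp a b ha hb hpn
        refine key p q hp hq ?_ a b ha ⟨k, hb⟩
        rintro rfl
        exact hpn (dvd_pow_self _ hk.ne')
    | zero =>
        intro p hp a b ha hb hpn
        exact absurd (dvd_zero p) hpn
    | one =>
        intro p hp a b ha hb hpn
        rw [orderOf_eq_one_iff] at hb
        exact hb ▸ Commute.one_right a
    | coprime m k hm hk hmk ihm ihk =>
        intro p hp a b ha hb hpn
        have h1 : orderOf (b ^ k) = m := by
          rw [orderOf_pow_of_dvd (by omega) (hb ▸ dvd_mul_left k m), hb,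
            Nat.mul_div_cancel _ (by omega)]
        have h2 : orderOf (b ^ m) = k := by
          rw [orderOf_pow_of_dvd (by omega) (hb ▸ dvd_mul_right m k), hb,
            Nat.mul_div_cancel_left _ (by omega)]
        have c1 := ihm p hp a (b ^ k) ha h1 (fun hd => hpn (dvd_mul_of_dvd_left hd k))
        have c2 := ihk p hp a (b ^ m) ha h2 (fun hd => hpn (dvd_mul_of_dvd_right hd m))
        have : b = (b ^ m) ^ (Nat.gcdA m k) * (b ^ k) ^ (Nat.gcdB m k) := by
          rw [← zpow_natCast b m, ← zpow_natCast b k, ← zpow_mul, ← zpow_mul, ← zpow_add,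
            ← Nat.gcd_eq_gcd_ab, hmk.gcd_eq_one, Nat.cast_one, zpow_one]
        rw [this]
        exact (c2.zpow_right _).mul_right (c1.zpow_right _)
  -- general case
  suffices ∀ n, ∀ a b : N, orderOf a = n → (orderOf b).Coprime n → Commute a b from
    this _ x y rfl h.symm
  intro n
  induction n using Nat.recOnPosPrimePosCoprime with
  | prime_pow p k hp hk =>
      intro a b ha hb
      refine key2 _ p hp a b ⟨k, ha⟩ rfl fun hd => ?_
      have := Nat.Coprime.eq_one_of_dvd (Nat.Coprime.coprime_dvd_right (dvd_pow_self p hk.ne') hb).symm hd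
      exact hp.one_lt.ne' this
  | zero =>
      intro a b ha
      exact absurd ha (orderOf_pos a).ne'
  | one =>
      intro a b ha hb
      rw [orderOf_eq_one_iff] at ha
      exact ha ▸ Commute.one_left b
  | coprime m k hm hk hmk ihm ihk =>
      intro a b ha hb
      have h1 : orderOf (a ^ k) = m := by
        rw [orderOf_pow_of_dvd (by omega) (ha ▸ dvd_mul_left k m), ha,
          Nat.mul_div_cancel _ (by omega)]
      have h2 : orderOf (a ^ m) = k := by
        rw [orderOf_pow_of_dvd (by omega) (ha ▸ dvd_mul_right m k), ha,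
          Nat.mul_div_cancel_left _ (by omega)]
      have c1 := ihm (a ^ k) b h1 hb.coprime_mul_right_right
      have c2 := ihk (a ^ m) b h2 hb.coprime_mul_left_right
      have : a = (a ^ m) ^ (Nat.gcdA m k) * (a ^ k) ^ (Nat.gcdB m k) := by
        rw [← zpow_natCast a m, ← zpow_natCast a k, ← zpow_mul, ← zpow_mul, ← zpow_add,
          ← Nat.gcd_eq_gcd_ab, hmk.gcd_eq_one, Nat.cast_one, zpow_one]
      rw [this]
      exact (c2.zpow_left _).mul_left (c1.zpow_left _)

/-- Elements of coprime orders in a nilpotent subgroup commute. -/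
theorem commute_of_coprime_mem [Finite G] {A : Subgroup G} (hA : Group.IsNilpotent ↥A) {x y : G}
    (hx : x ∈ A) (hy : y ∈ A) (h : (orderOf x).Coprime (orderOf y)) : Commute x y := by
  have hco : (orderOf (⟨x, hx⟩ : A)).Coprime (orderOf (⟨y, hy⟩ : A)) := by
    rwa [Subgroup.orderOf_mk, Subgroup.orderOf_mk]
  exact congrArg Subtype.val (commute_of_coprime _ _ hco)

/-- Two `p`-elements of a nilpotent subgroup lie in a common `p`-subgroup inside it. -/
theorem exists_pGroup_of_mem [Finite G] {p : ℕ} [Fact p.Prime] {A : Subgroup G}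
    (hA : Group.IsNilpotent ↥A) :
    ∃ P : Subgroup G, P ≤ A ∧ IsPGroup p ↥P ∧ (∀ x ∈ A, (∃ i, orderOf x = p ^ i) → x ∈ P) ∧
      (∀ x ∈ P, ∀ a ∈ A, a * x * a⁻¹ ∈ P) := by
  obtain ⟨S⟩ : Nonempty (Sylow p ↥A) := Sylow.nonempty
  have hn : (S : Subgroup ↥A).Normal := inferInstance
  refine ⟨(S : Subgroup ↥A).map A.subtype, Subgroup.map_subtype_le _, S.isPGroup'.map _, ?_, ?_⟩
  · rintro x hx ⟨i, hi⟩
    have hPa : IsPGroup p ↥(Subgroup.zpowers (⟨x, hx⟩ : A)) := by
      apply IsPGroup.of_card (n := i); rw [Nat.card_zpowers, Subgroup.orderOf_mk, hi]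
    obtain ⟨T, hT⟩ := hPa.exists_le_sylow
    have := Sylow.unique_of_normal S hn
    have hTS : T = S := Subsingleton.elim _ _
    exact ⟨⟨x, hx⟩, hTS ▸ hT (Subgroup.mem_zpowers _), rfl⟩
  · rintro x ⟨⟨x, hx⟩, hxS, rfl⟩ a ha
    exact ⟨⟨a, ha⟩ * ⟨x, hx⟩ * ⟨a, ha⟩⁻¹, hn.conj_mem _ hxS _, rfl⟩

/-- A nilpotent subgroup containing `x ≠ 1` contains an element of prime order commuting with all of it. -/
theorem exists_central [Finite G] {A : Subgroup G} (hA : Group.IsNilpotent ↥A) {x : G}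
    (hx : x ∈ A) (hx1 : x ≠ 1) :
    ∃ z ∈ A, z ≠ 1 ∧ ∀ a ∈ A, z * a = a * z := by
  have : Nontrivial ↥A := ⟨⟨x, hx⟩, 1, fun h => hx1 (congrArg Subtype.val h)⟩
  have : Nontrivial ↥(Subgroup.center ↥A) :=
    (Subgroup.nontrivial_iff_ne_bot _).2 (Group.IsNilpotent.center_ne_bot ↥A)
  obtain ⟨⟨z, hzc⟩, hz1⟩ := exists_ne (1 : ↥(Subgroup.center ↥A))
  refine ⟨z, z.2, fun h => hz1 (by ext; exact h), fun a ha => ?_⟩
  exact congrArg Subtype.val ((Subgroup.mem_center_iff.1 hzc ⟨a, ha⟩).symm)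

end CfsgLib.NilpotentCover

namespace CfsgLib.NilpotentCover

/-- Having a minimal nilpotent cover is invariant under isomorphism. -/
theorem exists_of_equiv {G H : Type*} [Group G] [Group H] (e : G ≃* H)
    (h : ∃ 𝓐 : Finset (Subgroup G), MinimalNilpotentCover 𝓐) :
    ∃ 𝓑 : Finset (Subgroup H), MinimalNilpotentCover 𝓑 := by
  classical
  obtain ⟨𝓐, ⟨hp, hc⟩, hm, hn⟩ := h
  have hne : ∀ A : Subgroup G, A ≠ ⊤ → A.map e.toMonoidHom ≠ ⊤ := fun A hA hA' => hA <| by
    rw [← A.comap_map_eq_self_of_injective (f := e.toMonoidHom) e.injective, hA', Subgroup.comap_top]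
  refine ⟨𝓐.image (fun A => A.map e.toMonoidHom), ⟨?_, fun g => ?_⟩, ?_, ?_⟩
  · intro B hB
    obtain ⟨A, hA, rfl⟩ := Finset.mem_image.1 hB
    exact hne A (hp A hA)
  · obtain ⟨A, hA, hg⟩ := hc (e.symm g)
    exact ⟨_, Finset.mem_image_of_mem _ hA, ⟨_, hg, e.apply_symm_apply g⟩⟩
  · rintro 𝓑 ⟨h1, h2⟩
    refine Finset.card_image_le.trans ((hm (𝓑.image (fun B => B.comap e.toMonoidHom)) ⟨?_, ?_⟩).trans
      Finset.card_image_le)
    · intro A hA
      obtain ⟨B, hB, rfl⟩ := Finset.mem_image.1 hA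
      refine fun hB' => h1 B hB ?_
      rw [← Subgroup.map_comap_eq_self_of_surjective (f := e.toMonoidHom) e.surjective B, hB',
        Subgroup.map_top_of_surjective _ e.surjective]
    · intro g
      obtain ⟨B, hB, hg⟩ := h2 (e g)
      exact ⟨_, Finset.mem_image_of_mem _ hB, hg⟩
  · intro B hB
    obtain ⟨A, hA, rfl⟩ := Finset.mem_image.1 hB
    have := hn A hA
    exact Group.nilpotent_of_mulEquiv (A.equivMapOfInjective e.toMonoidHom e.injective)

end CfsgLib.NilpotentCover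

namespace CfsgLib.NilpotentCover

/-- If `x ∈ H` and `g⁻¹ x g ∈ H` only for `g ∈ H`, then a nilpotent subgroup containing `x` lies in `H`. -/
theorem le_of_conj_mem_imp {G : Type*} [Group G] {A H : Subgroup G} (hA : Group.IsNilpotent ↥A)
    {x : G} (hxA : x ∈ A) (hxH : x ∈ H) (hw : ∀ g : G, g⁻¹ * x * g ∈ H → g ∈ H) : A ≤ H := by
  by_contra hAH
  have hlt : H.subgroupOf A < ⊤ := by
    rw [lt_top_iff_ne_top, ne_eq, Subgroup.subgroupOf_eq_top]
    exact hAH
  obtain ⟨g, hgN, hgS⟩ := SetLike.exists_of_lt (Group.normalizerCondition_of_isNilpotent (G := ↥A) _ hlt)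
  refine hgS (hw g ?_)
  have h1 := (Subgroup.mem_normalizer_iff.1 (inv_mem hgN) ⟨x, hxA⟩).1 hxH
  simpa [Subgroup.mem_subgroupOf] using h1

end CfsgLib.NilpotentCover
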