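import Cfsg.Agent.NilpotentCover.Basic
import Cfsg.Prelude.Def_Transfer

/-!
Abelian Sylow subgroups in a centreless group with a minimal cover by nilpotent subgroups.
-/

set_option autoImplicit false

namespace CfsgLib.NilpotentCover

open Subgroup

variable {G : Type*} [Group G] [Finite G] {p : ℕ} [hp : Fact p.Prime]

/-- An element lies in a subgroup containing its `p`-part and its `p'`-part. -/
theorem mem_of_parts (H : Subgroup G) (a : G)
    (h1 : ∀ b ∈ zpowers a, (∃ i, orderOf b = p ^ i) → b ∈ H)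
    (h2 : ∀ b ∈ zpowers a, ¬ p ∣ orderOf b → b ∈ H) : a ∈ H := by
  obtain ⟨k, m, hm, hkm⟩ :=
    Nat.exists_eq_pow_mul_and_not_dvd (orderOf_pos a).ne' p hp.out.ne_one
  have hm0 : m ≠ 0 := fun h => hm (h ▸ dvd_zero p)
  have hp0 : p ^ k ≠ 0 := pow_ne_zero _ hp.out.ne_zero
  have e1 : orderOf (a ^ m) = p ^ k := by
    rw [orderOf_pow_of_dvd hm0 (hkm ▸ dvd_mul_left m _), hkm, Nat.mul_div_cancel _ (by omega)]
  have e2 : orderOf (a ^ p ^ k) = m := by
    rw [orderOf_pow_of_dvd hp0 (hkm ▸ dvd_mul_right _ m), hkm,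
      Nat.mul_div_cancel_left _ (by omega)]
  have m1 := h1 (a ^ m) (pow_mem (mem_zpowers a) m) ⟨k, e1⟩
  have m2 := h2 (a ^ p ^ k) (pow_mem (mem_zpowers a) _) (by rw [e2]; exact hm)
  have hc : (p ^ k).Coprime m := Nat.Coprime.pow_left k (hp.out.coprime_iff_not_dvd.2 hm)
  have : a = (a ^ p ^ k) ^ (Nat.gcdA (p ^ k) m) * (a ^ m) ^ (Nat.gcdB (p ^ k) m) := by
    rw [← zpow_natCast a (p ^ k), ← zpow_natCast a m, ← zpow_mul, ← zpow_mul, ← zpow_add,
      ← Nat.gcd_eq_gcd_ab, hc.gcd_eq_one, Nat.cast_one, zpow_one]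
  rw [this]
  exact mul_mem (zpow_mem m2 _) (zpow_mem m1 _)

omit [Finite G] hp in
theorem mem_sylow_of_mem_normalizer (P : Sylow p G) {w : G}
    (hw : ∃ i, orderOf w = p ^ i) (hN : w ∈ normalizer ((P : Subgroup G) : Set G)) :
    w ∈ (P : Subgroup G) := by
  obtain ⟨i, hi⟩ := hw
  have hW : IsPGroup p ↥(zpowers w) := by
    apply IsPGroup.of_card (n := i); rw [Nat.card_zpowers, hi]
  have hle : zpowers w ≤ normalizer ((P : Subgroup G) : Set G) := zpowers_le.2 hN
  have hsup : IsPGroup p ↥(zpowers w ⊔ (P : Subgroup G)) :=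
    hW.to_sup_of_normal_right' P.isPGroup' hle
  have := P.3 hsup le_sup_right
  exact this ▸ le_sup_left (a := zpowers w) (mem_zpowers w)

omit [Finite G] in
theorem exists_orderOf_of_mem (P : Sylow p G) {x : G} (hx : x ∈ (P : Subgroup G)) :
    ∃ i, orderOf x = p ^ i := by
  obtain ⟨i, hi⟩ := IsPGroup.iff_orderOf.1 P.isPGroup' ⟨x, hx⟩
  exact ⟨i, by rwa [Subgroup.orderOf_mk] at hi⟩

omit [Finite G] in
theorem commute_of_isMulCommutative {H : Subgroup G} (h : IsMulCommutative ↥H) {x y : G}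
    (hx : x ∈ H) (hy : y ∈ H) : x * y = y * x :=
  congrArg Subtype.val (h.is_comm.comm ⟨x, hx⟩ ⟨y, hy⟩)

variable {P : Sylow p G}

theorem sylow_commutative (hab : IsMulCommutative ↥(P : Subgroup G)) (Q : Sylow p G) :
    IsMulCommutative ↥(Q : Subgroup G) := by
  have e := P.equiv Q
  refine ⟨⟨fun a b => ?_⟩⟩
  apply e.symm.injective
  rw [map_mul, map_mul]
  exact hab.is_comm.comm _ _

variable (hab : IsMulCommutative ↥(P : Subgroup G))
include hab

/-- With abelian Sylow `p`-subgroups, a nilpotent subgroup centralizes each of its `p`-elements. -/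
theorem le_centralizer_of_pElement {A : Subgroup G} (hA : Group.IsNilpotent ↥A) {x : G}
    (hx : x ∈ A) (hxp : ∃ i, orderOf x = p ^ i) : A ≤ centralizer ({x} : Set G) := by
  intro a ha
  refine mem_of_parts (p := p) _ a ?_ ?_
  · intro b hb hbp
    obtain ⟨Q₀, -, hQ₀, hmem, -⟩ := exists_pGroup_of_mem (p := p) hA
    obtain ⟨Q, hQ⟩ := hQ₀.exists_le_sylow
    exact mem_centralizer_singleton_iff.2 (commute_of_isMulCommutative (sylow_commutative hab Q)
      (hQ (hmem b (zpowers_le.2 ha hb) hbp)) (hQ (hmem x hx hxp)))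
  · intro b hb hbp
    refine mem_centralizer_singleton_iff.2
      (commute_of_coprime_mem hA hx (zpowers_le.2 ha hb) ?_).symm
    obtain ⟨i, hi⟩ := hxp
    rw [hi]
    exact Nat.Coprime.pow_left i (hp.out.coprime_iff_not_dvd.2 hbp)

variable {𝓐 : Finset (Subgroup G)} (hZ : center G = ⊥) (h : MinimalNilpotentCover 𝓐)
include hZ h

/-- A nontrivial `p`-element lies in exactly one member. -/
theorem member_unique {A B : Subgroup G} (hA : A ∈ 𝓐) (hB : B ∈ 𝓐) {x : G} (hxA : x ∈ A)
    (hxB : x ∈ B) (hxp : ∃ i, orderOf x = p ^ i) (hx1 : x ≠ 1) : A = B := by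
  refine eq_of_le_proper h (M := centralizer ({x} : Set G)) ?_ hA hB
    (le_centralizer_of_pElement hab (h.2.2 A hA) hxA hxp)
    (le_centralizer_of_pElement hab (h.2.2 B hB) hxB hxp)
  intro htop
  refine hx1 (?_ : x = 1)
  rw [← mem_bot, ← hZ, mem_center_iff]
  intro g
  exact (mem_centralizer_singleton_iff.1 (htop ▸ mem_top g : g ∈ centralizer ({x} : Set G)))

/-- Elements of order prime to `p` centralizing a nontrivial `p`-element of a member lie in it. -/
theorem pPrime_mem {A : Subgroup G} (hA : A ∈ 𝓐) {x a : G} (hxA : x ∈ A)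
    (hxp : ∃ i, orderOf x = p ^ i) (hx1 : x ≠ 1) (hc : Commute x a) (hap : ¬ p ∣ orderOf a) :
    a ∈ A := by
  obtain ⟨B, hB, hxaB⟩ := h.1.2 (x * a)
  obtain ⟨i, hi⟩ := hxp
  have hco : (orderOf a).Coprime (orderOf x) := by
    rw [hi]; exact Nat.Coprime.pow_right i (hp.out.coprime_iff_not_dvd.2 hap).symm
  obtain ⟨u, hu⟩ := exists_pow_eq_self_of_coprime hco
  have hxB : x ∈ B := by
    have : (x * a) ^ orderOf a ∈ B := pow_mem hxaB _
    rw [hc.mul_pow, pow_orderOf_eq_one, mul_one] at this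
    exact hu ▸ pow_mem this u
  have hAB : A = B := member_unique hab hZ h hA hB hxA hxB ⟨i, hi⟩ hx1
  have : x⁻¹ * (x * a) ∈ A := mul_mem (inv_mem hxA) (hAB ▸ hxaB)
  rwa [inv_mul_cancel_left] at this

/-- Every abelian Sylow subgroup lies in a member, or is elementary abelian of order more than `p`. -/
theorem sylow_in_member_or (hP1 : (P : Subgroup G) ≠ ⊥) (Q : Sylow p G) :
    (∃ A ∈ 𝓐, (Q : Subgroup G) ≤ A) ∨
      (Cfsg.IsElementaryAbelian p (P : Subgroup G) ∧ p < Nat.card ↥(P : Subgroup G)) := by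
  by_cases hQ : ∃ A ∈ 𝓐, (Q : Subgroup G) ≤ A
  · exact Or.inl hQ
  push Not at hQ
  refine Or.inr ?_
  have habQ := sylow_commutative hab Q
  have hoe : ∀ a b : ↥(Q : Subgroup G), a ≠ 1 → b ≠ 1 →
      ∀ A ∈ 𝓐, ∀ B ∈ 𝓐, (a : G) ∈ A → (b : G) ∈ B → A ≠ B → a ^ orderOf b = 1 := by
    intro a b ha hb A hA B hB haA hbB hne
    by_contra hab'
    obtain ⟨D, hD, hD'⟩ := h.1.2 ((a : G) * b)
    have hc : Commute (a : G) (b : G) := commute_of_isMulCommutative habQ a.2 b.2
    have hm : ((a : G) * b) ^ orderOf b ∈ D := pow_mem hD' _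
    rw [hc.mul_pow, ← SubgroupClass.coe_pow, ← SubgroupClass.coe_pow, pow_orderOf_eq_one,
      OneMemClass.coe_one, mul_one] at hm
    have hne1 : ((a ^ orderOf b : ↥(Q : Subgroup G)) : G) ≠ 1 := fun e =>
      hab' (Subtype.ext e)
    have hDA : A = D := member_unique hab hZ h hA hD
      (by rw [SubgroupClass.coe_pow]; exact pow_mem haA _) hm
      (exists_orderOf_of_mem Q (a ^ orderOf b).2) hne1
    subst hDA
    have hbA : (b : G) ∈ A := by
      have : (a : G)⁻¹ * ((a : G) * b) ∈ A := mul_mem (inv_mem haA) hD'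
      rwa [inv_mul_cancel_left] at this
    exact hne (member_unique hab hZ h hA hB hbA hbB (exists_orderOf_of_mem Q b.2)
      (fun e => hb (Subtype.ext e)))
  -- all nontrivial elements of `Q` have the same order
  have heq : ∀ a b : ↥(Q : Subgroup G), a ≠ 1 → b ≠ 1 → orderOf a = orderOf b := by
    have two : ∀ a b : ↥(Q : Subgroup G), a ≠ 1 → b ≠ 1 →
      ∀ A ∈ 𝓐, ∀ B ∈ 𝓐, (a : G) ∈ A → (b : G) ∈ B → A ≠ B → orderOf a = orderOf b :=
      fun a b ha hb A hA B hB haA hbB hne => Nat.dvd_antisymm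
        (orderOf_dvd_of_pow_eq_one (hoe a b ha hb A hA B hB haA hbB hne))
        (orderOf_dvd_of_pow_eq_one (hoe b a hb ha B hB A hA hbB haA hne.symm))
    intro a b ha hb
    obtain ⟨A, hA, haA⟩ := h.1.2 a
    obtain ⟨B, hB, hbB⟩ := h.1.2 b
    by_cases hne : A = B
    · obtain ⟨c, hcQ, hcA⟩ := SetLike.not_le_iff_exists.1 (hQ A hA)
      obtain ⟨C, hC, hcC⟩ := h.1.2 c
      have hcne : (⟨c, hcQ⟩ : ↥(Q : Subgroup G)) ≠ 1 := fun e =>
        hcA (by have e' : c = 1 := congrArg Subtype.val e; rw [e']; exact one_mem A)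
      have hCA : A ≠ C := fun e => hcA (e ▸ hcC)
      rw [two a ⟨c, hcQ⟩ ha hcne A hA C hC haA hcC hCA,
        two b ⟨c, hcQ⟩ hb hcne B hB C hC hbB hcC (hne ▸ hCA)]
    · exact two a b ha hb A hA B hB haA hbB hne
  have hexp : ∀ a : ↥(Q : Subgroup G), a ^ p = 1 := by
    intro a
    by_contra hne
    have hane : a ≠ 1 := fun e => hne (by rw [e, one_pow])
    obtain ⟨i, hi⟩ := IsPGroup.iff_orderOf.1 Q.isPGroup' a
    have hi0 : i ≠ 0 := fun e => hane (orderOf_eq_one_iff.1 (by rw [hi, e, pow_zero]))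
    have h1 : orderOf (a ^ p) = p ^ (i - 1) := by
      rw [orderOf_pow_of_dvd hp.out.ne_zero (hi ▸ dvd_pow_self p hi0), hi,
        ← Nat.pow_div (Nat.one_le_iff_ne_zero.2 hi0) hp.out.pos, pow_one]
    have h2 := heq (a ^ p) a hne hane
    rw [h1, hi] at h2
    have := Nat.pow_right_injective hp.out.two_le h2
    omega
  have e := P.equiv Q
  refine ⟨⟨hab, fun a ha => ?_⟩, ?_⟩
  · have h1 : e ⟨a, ha⟩ ^ p = 1 := hexp _
    rw [← map_pow, ← map_one e] at h1
    exact congrArg Subtype.val (e.injective h1)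
  · obtain ⟨n, hn⟩ := IsPGroup.iff_card.1 P.isPGroup'
    have hn0 : n ≠ 0 := fun e => hP1 (card_eq_one.1 (by rw [hn, e, pow_zero]))
    rw [hn]
    rcases Nat.lt_or_ge n 2 with hn2 | hn2
    · exfalso
      have hn1 : n = 1 := by omega
      have hcard : Nat.card ↥(Q : Subgroup G) = p := by
        rw [← Nat.card_congr e.toEquiv, hn, hn1, pow_one]
      have := isCyclic_of_prime_card hcard
      obtain ⟨c, hc⟩ := this.exists_generator
      obtain ⟨C, hC, hcC⟩ := h.1.2 c
      refine hQ C hC fun x hx => ?_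
      obtain ⟨k, hk⟩ := hc ⟨x, hx⟩
      have : (c : G) ^ k = x := congrArg Subtype.val hk
      exact this ▸ zpow_mem hcC k
    · calc p = p ^ 1 := (pow_one p).symm
        _ < p ^ n := Nat.pow_lt_pow_right hp.out.one_lt hn2

/-- If the Sylow subgroup `Q` lies in the member `A` then `A = C_G(Q)`. -/
theorem centralizer_eq_member {A : Subgroup G} (hA : A ∈ 𝓐) (Q : Sylow p G)
    (hQ1 : (Q : Subgroup G) ≠ ⊥) (hQA : (Q : Subgroup G) ≤ A) :
    centralizer ((Q : Subgroup G) : Set G) = A := by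
  apply le_antisymm
  · intro a ha
    obtain ⟨x, hx, hx1⟩ := (bot_or_exists_ne_one (Q : Subgroup G)).resolve_left hQ1
    refine mem_of_parts (p := p) A a ?_ ?_
    · intro b hb hbp
      exact hQA (mem_sylow_of_mem_normalizer Q hbp
        (centralizer_le_normalizer _ (zpowers_le.2 ha hb)))
    · intro b hb hbp
      exact pPrime_mem hab hZ h hA (hQA hx) (exists_orderOf_of_mem Q hx) hx1
        (mem_centralizer_iff.1 (zpowers_le.2 ha hb) x hx) hbp
  · intro a ha x hx
    exact (mem_centralizer_singleton_iff.1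
      (le_centralizer_of_pElement hab (h.2.2 A hA) (hQA hx) (exists_orderOf_of_mem Q hx) ha)).symm

/-- The normalizer of `P` is a maximal subgroup, the only one over `C_G(P)`, and is strongly
`p`-embedded, when every Sylow `p`-subgroup lies in a member. -/
theorem normalizer_facts (hnn : ¬ (P : Subgroup G).Normal)
    (hall : ∀ Q : Sylow p G, ∃ A ∈ 𝓐, (Q : Subgroup G) ≤ A) :
    IsCoatom (normalizer ((P : Subgroup G) : Set G)) ∧
      (∀ M : Subgroup G, IsCoatom M → centralizer ((P : Subgroup G) : Set G) ≤ M →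
        M = normalizer ((P : Subgroup G) : Set G)) ∧
      (∀ g : G, g ∉ normalizer ((P : Subgroup G) : Set G) →
        ¬ p ∣ Nat.card ↥(normalizer ((P : Subgroup G) : Set G) ⊓
          (normalizer ((P : Subgroup G) : Set G)).map (MulAut.conj g).toMonoidHom)) := by
  have hP1 : (P : Subgroup G) ≠ ⊥ := fun e => hnn (e ▸ inferInstance)
  have hne : ∀ Q : Sylow p G, (Q : Subgroup G) ≠ ⊥ := by
    intro Q e
    refine hP1 (card_eq_one.1 ?_)
    rw [Nat.card_congr (P.equiv Q).toEquiv, e, card_bot]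
  have hNtop : normalizer ((P : Subgroup G) : Set G) ≠ ⊤ := fun e => hnn (normalizer_eq_top_iff.1 e)
  obtain ⟨A, hA, hPA⟩ := hall P
  have hCA := centralizer_eq_member hab hZ h hA P hP1 hPA
  -- members belonging to conjugates coincide only inside the normalizer
  have hsame : ∀ g : G, ∀ x : G, x ≠ 1 → x ∈ (P : Subgroup G) → x ∈ ((g • P : Sylow p G) : Subgroup G) →
      g ∈ normalizer ((P : Subgroup G) : Set G) := by
    intro g x hx1 hxP hxQ
    obtain ⟨B, hB, hQB⟩ := hall (g • P)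
    have hAB : A = B := member_unique hab hZ h hA hB (hPA hxP) (hQB hxQ)
      (exists_orderOf_of_mem P hxP) hx1
    refine Sylow.smul_eq_iff_mem_normalizer.1 ?_
    apply Sylow.ext
    refine eq_of_le_of_card_ge ?_ (le_of_eq (Nat.card_congr (P.equiv (g • P)).toEquiv))
    intro y hy
    refine mem_sylow_of_mem_normalizer P (exists_orderOf_of_mem _ hy) ?_
    apply centralizer_le_normalizer
    rw [hCA, hAB]
    exact hQB hy
  -- a maximal subgroup over the centralizer normalizes `P`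
  have huniq : ∀ M : Subgroup G, M ≠ ⊤ → centralizer ((P : Subgroup G) : Set G) ≤ M →
      M ≤ normalizer ((P : Subgroup G) : Set G) := by
    intro M hM hCM g hg
    obtain ⟨B, hB, hQB⟩ := hall (g • P)
    have hCB := centralizer_eq_member hab hZ h hB (g • P) (hne _) hQB
    have hBM : B ≤ M := by
      intro b hb
      have hb' : g⁻¹ * b * g ∈ centralizer ((P : Subgroup G) : Set G) := by
        rw [mem_centralizer_iff]
        intro x hx
        have hx' : g * x * g⁻¹ ∈ ((g • P : Sylow p G) : Subgroup G) := by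
          rw [Sylow.coe_subgroup_smul]
          exact ⟨x, hx, by simp [MulAut.smul_def]⟩
        have hc : (g * x * g⁻¹) * b = b * (g * x * g⁻¹) :=
          mem_centralizer_iff.1 (hCB.symm ▸ hb : b ∈ centralizer _) _ hx'
        calc x * (g⁻¹ * b * g) = g⁻¹ * ((g * x * g⁻¹) * b) * g := by group
          _ = g⁻¹ * (b * (g * x * g⁻¹)) * g := by rw [hc]
          _ = g⁻¹ * b * g * x := by group
      have : b = g * (g⁻¹ * b * g) * g⁻¹ := by group
      rw [this]
      exact mul_mem (mul_mem hg (hCM hb')) (inv_mem hg)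
    have hAB : A = B := eq_of_le_proper h hM hA hB (hCA ▸ hCM) hBM
    obtain ⟨x, hx, hx1⟩ := (bot_or_exists_ne_one (P : Subgroup G)).resolve_left hP1
    refine Sylow.smul_eq_iff_mem_normalizer.1 ?_
    apply Sylow.ext
    refine eq_of_le_of_card_ge ?_ (le_of_eq (Nat.card_congr (P.equiv (g • P)).toEquiv))
    intro y hy
    refine mem_sylow_of_mem_normalizer P (exists_orderOf_of_mem _ hy) ?_
    apply centralizer_le_normalizer
    rw [hCA, hAB]
    exact hQB hy
  refine ⟨⟨hNtop, fun M hM => ?_⟩, fun M hM hCM => ?_, ?_⟩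
  · by_contra hMtop
    exact (lt_irrefl _) (hM.trans_le (huniq M hMtop ((centralizer_le_normalizer _).trans hM.le)))
  · have hle := huniq M hM.1 hCM
    exact (hM.le_iff.1 hle).resolve_left hNtop |>.symm
  · intro g hg hdvd
    obtain ⟨⟨x, hx⟩, hord⟩ := exists_prime_orderOf_dvd_card' p hdvd
    rw [Subgroup.orderOf_mk] at hord
    obtain ⟨hxN, y, hy, hxy⟩ := hx
    have hxP : x ∈ (P : Subgroup G) :=
      mem_sylow_of_mem_normalizer P ⟨1, by rw [hord, pow_one]⟩ hxN
    have hxy' : g * y * g⁻¹ = x := hxy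
    have hyord : orderOf y = p := by
      rw [← hord, ← hxy]
      exact ((MulAut.conj g).orderOf_eq y).symm
    have hyP : y ∈ (P : Subgroup G) :=
      mem_sylow_of_mem_normalizer P ⟨1, by rw [hyord, pow_one]⟩ hy
    refine hg (hsame g x ?_ hxP ?_)
    · intro e; rw [e, orderOf_one] at hord; exact hp.out.one_lt.ne hord
    · rw [Sylow.coe_subgroup_smul]
      exact ⟨y, hyP, by simpa [MulAut.smul_def] using hxy'⟩

end CfsgLib.NilpotentCover
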