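import Cfsg.Agent.NilpotentCover.Basic

/-!
Subgroups of the projective general linear group between the images of `SL` and the whole:
point and line stabilizers, and the obstruction to minimal nilpotent covers in dimension at least 3.
-/

set_option autoImplicit false

namespace CfsgLib.NilpotentCover.Projective

open Matrix

variable {F : Type*} [Field F] {n : ℕ}

/-- The projection to the projective general linear group. -/
abbrev proj (F : Type*) [Field F] (n : ℕ) :
    GL (Fin n) F →* GL (Fin n) F ⧸ Subgroup.center (GL (Fin n) F) :=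
  QuotientGroup.mk' (Subgroup.center (GL (Fin n) F))

theorem proj_eq_iff {g h : GL (Fin n) F} :
    proj F n g = proj F n h ↔
      ∃ c : Fˣ, (h : Matrix (Fin n) (Fin n) F) = (c : F) • (g : Matrix (Fin n) (Fin n) F) := by
  rw [QuotientGroup.mk'_eq_mk']
  constructor
  · rintro ⟨z, hz, rfl⟩
    rw [Matrix.GeneralLinearGroup.center_eq_range_scalar] at hz
    obtain ⟨c, rfl⟩ := hz
    refine ⟨c, ?_⟩
    ext i j
    simp [Matrix.mul_diagonal, mul_comm]
  · rintro ⟨c, hc⟩
    refine ⟨g⁻¹ * h, ?_, by rw [mul_inv_cancel_left]⟩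
    rw [Matrix.GeneralLinearGroup.center_eq_range_scalar]
    refine ⟨c, ?_⟩
    rw [eq_inv_mul_iff_mul_eq]
    apply Units.ext
    rw [hc]
    ext i j
    simp [Matrix.mul_diagonal, mul_comm]

variable [Fintype F]

/-- The submonoid of matrices with a zero lower left block below the first `k` columns. -/
def colSubmonoid (F : Type*) [Field F] (n k : ℕ) : Submonoid (GL (Fin n) F) where
  carrier := {g | ∀ i j : Fin n, j.val < k → k ≤ i.val → (g : Matrix (Fin n) (Fin n) F) i j = 0}
  one_mem' := fun i j hj hi => by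
    rw [Units.val_one, Matrix.one_apply_ne]
    rintro rfl
    omega
  mul_mem' := fun {g h} hg hh i j hj hi => by
    rw [Units.val_mul, Matrix.mul_apply]
    refine Finset.sum_eq_zero fun l _ => ?_
    rcases Nat.lt_or_ge l.val k with hl | hl
    · rw [hg i l hl hi, zero_mul]
    · rw [hh l j hj hl, mul_zero]

/-- The stabilizer of the span of the first `k` basis vectors. -/
def colStab (F : Type*) [Field F] [Fintype F] (n k : ℕ) : Subgroup (GL (Fin n) F) :=
  { colSubmonoid F n k with
    inv_mem' := fun {a} ha => by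
      have h1 : a⁻¹ = a ^ (orderOf a - 1) := by
        rw [inv_eq_iff_mul_eq_one, ← pow_succ', Nat.sub_add_cancel (orderOf_pos a),
          pow_orderOf_eq_one]
      rw [h1]
      exact (colSubmonoid F n k).pow_mem ha _ }

theorem mem_colStab {k : ℕ} {g : GL (Fin n) F} :
    g ∈ colStab F n k ↔
      ∀ i j : Fin n, j.val < k → k ≤ i.val → (g : Matrix (Fin n) (Fin n) F) i j = 0 :=
  Iff.rfl

theorem proj_mem_colStab {k : ℕ} {g : GL (Fin n) F} :
    proj F n g ∈ (colStab F n k).map (proj F n) ↔ g ∈ colStab F n k := by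
  refine ⟨?_, fun h => Subgroup.mem_map_of_mem _ h⟩
  rintro ⟨h, hh, e⟩
  obtain ⟨c, hc⟩ := proj_eq_iff.1 e
  intro i j hj hi
  rw [hc, Matrix.smul_apply, hh i j hj hi, smul_zero]

/-- The upper unitriangular Jordan block. -/
def jordanMat (F : Type*) [Field F] (n : ℕ) : Matrix (Fin n) (Fin n) F :=
  Matrix.of fun i j => if j.val = i.val ∨ j.val = i.val + 1 then 1 else 0

omit [Fintype F] in
theorem det_jordanMat : (jordanMat F n).det = 1 := by
  rw [Matrix.det_of_isUpperTriangular]
  · simp [jordanMat]
  · intro i j hij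
    have : j.val < i.val := hij
    simp only [jordanMat, Matrix.of_apply]
    rw [if_neg (by omega)]

/-- The Jordan block as an element of `GL`. -/
noncomputable def jordan (F : Type*) [Field F] (n : ℕ) : GL (Fin n) F :=
  Matrix.GeneralLinearGroup.mkOfDetNeZero (jordanMat F n) (by rw [det_jordanMat]; exact one_ne_zero)

omit [Fintype F] in
theorem coe_jordan : (jordan F n : Matrix (Fin n) (Fin n) F) = jordanMat F n := rfl

theorem jordan_mem_colStab (k : ℕ) : jordan F n ∈ colStab F n k := by
  intro i j hj hi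
  rw [coe_jordan, jordanMat, Matrix.of_apply, if_neg (by omega)]

omit [Fintype F] in
theorem jordanMat_mul_apply (g : Matrix (Fin n) (Fin n) F) (i j : Fin n) :
    (jordanMat F n * g) i j =
      g i j + (if h : i.val + 1 < n then g ⟨i.val + 1, h⟩ j else 0) := by
  rw [Matrix.mul_apply]
  split_ifs with h
  · have hne : i ≠ ⟨i.val + 1, h⟩ := fun e => by
      have : i.val = i.val + 1 := congrArg Fin.val e
      omega
    rw [← Finset.sum_subset (Finset.subset_univ {i, ⟨i.val + 1, h⟩}) ?_,
      Finset.sum_pair hne]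
    · simp [jordanMat]
    · intro l _ hl
      simp only [Finset.mem_insert, Finset.mem_singleton, not_or, Fin.ext_iff] at hl
      rw [jordanMat, Matrix.of_apply, if_neg (by omega), zero_mul]
  · rw [Finset.sum_eq_single i ?_ (by simp)]
    · simp [jordanMat]
    · intro l _ hl
      rw [ne_eq, Fin.ext_iff] at hl
      have := l.isLt
      rw [jordanMat, Matrix.of_apply, if_neg (by omega), zero_mul]

omit [Fintype F] in
/-- A sequence obeying a two-dimensional linear recursion and ending in zero. -/
theorem eq_zero_of_recursion (v w : ℕ → F) (α β γ δ : F)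
    (hv : ∀ i < n, v (i + 1) = v i * α + w i * β) (hw : ∀ i < n, w (i + 1) = v i * γ + w i * δ)
    (hvn : v n = 0) (hwn : w n = 0) : ∀ i, 2 ≤ i → i ≤ n → v i = 0 ∧ w i = 0 := by
  intro i h2 hin
  by_cases hd : α * δ - β * γ = 0
  · have hstep : ∀ k, k + 2 ≤ n → v (k + 2) = (α + δ) * v (k + 1) ∧ w (k + 2) = (α + δ) * w (k + 1) := by
      intro k hk
      refine ⟨?_, ?_⟩
      · rw [hv (k + 1) (by omega), hw k (by omega), hv k (by omega)]
        linear_combination (-(v k)) * hd
      · rw [hw (k + 1) (by omega), hw k (by omega), hv k (by omega)]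
        linear_combination (-(w k)) * hd
    by_cases hτ : α + δ = 0
    · obtain ⟨h1, h3⟩ := hstep (i - 2) (by omega)
      rw [show i - 2 + 2 = i by omega, hτ, zero_mul] at h1 h3
      exact ⟨h1, h3⟩
    · have : ∀ d k, 2 ≤ k → k + d = n → v k = 0 ∧ w k = 0 := by
        intro d
        induction d with
        | zero => intro k _ hk; rw [add_zero] at hk; subst hk; exact ⟨hvn, hwn⟩
        | succ d ih =>
            intro k hk2 hk
            obtain ⟨h1, h3⟩ := ih (k + 1) (by omega) (by omega)
            obtain ⟨h4, h5⟩ := hstep (k - 1) (by omega)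
            rw [show k - 1 + 2 = k + 1 by omega, show k - 1 + 1 = k by omega, h1] at h4
            rw [show k - 1 + 2 = k + 1 by omega, show k - 1 + 1 = k by omega, h3] at h5
            exact ⟨(mul_eq_zero.1 h4.symm).resolve_left hτ, (mul_eq_zero.1 h5.symm).resolve_left hτ⟩
      exact this (n - i) i h2 (by omega)
  · have : ∀ d k, k + d = n → v k = 0 ∧ w k = 0 := by
      intro d
      induction d with
      | zero => intro k hk; rw [add_zero] at hk; subst hk; exact ⟨hvn, hwn⟩
      | succ d ih =>
          intro k hk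
          obtain ⟨h1, h3⟩ := ih (k + 1) (by omega)
          have e1 : v k * α + w k * β = 0 := (hv k (by omega)).symm.trans h1
          have e2 : v k * γ + w k * δ = 0 := (hw k (by omega)).symm.trans h3
          have f1 : v k * (α * δ - β * γ) = 0 := by linear_combination δ * e1 - β * e2
          have f2 : w k * (α * δ - β * γ) = 0 := by linear_combination α * e2 - γ * e1
          exact ⟨(mul_eq_zero.1 f1).resolve_right hd, (mul_eq_zero.1 f2).resolve_right hd⟩
    exact this (n - i) i (by omega)

/-- The first basis line and the first basis plane are the only ones fixed by the Jordan block. -/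
theorem mem_colStab_of_conj {k : ℕ} (hk : k = 1 ∨ k = 2) (hkn : k ≤ n) {g : GL (Fin n) F}
    (h : g⁻¹ * jordan F n * g ∈ colStab F n k) : g ∈ colStab F n k := by
  obtain ⟨B, hB⟩ : ∃ B, B = g⁻¹ * jordan F n * g := ⟨_, rfl⟩
  rw [← hB] at h
  have heq : jordanMat F n * (g : Matrix (Fin n) (Fin n) F)
      = (g : Matrix (Fin n) (Fin n) F) * (B : Matrix (Fin n) (Fin n) F) := by
    rw [← coe_jordan, ← Units.val_mul, ← Units.val_mul, hB]
    congr 1
    group
  have hent : ∀ i j : Fin n, j.val < k →
      (g : Matrix (Fin n) (Fin n) F) i j +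
        (if h : i.val + 1 < n then (g : Matrix (Fin n) (Fin n) F) ⟨i.val + 1, h⟩ j else 0)
      = ∑ l ∈ Finset.univ.filter (fun l : Fin n => l.val < k),
          (g : Matrix (Fin n) (Fin n) F) i l * (B : Matrix (Fin n) (Fin n) F) l j := by
    intro i j hj
    rw [← jordanMat_mul_apply, heq, Matrix.mul_apply]
    refine (Finset.sum_filter_of_ne ?_).symm
    intro l _ hne
    by_contra hl
    exact hne (by rw [h l j hj (by omega), mul_zero])
  let c : Fin n → ℕ → F := fun j i =>
    if hi : i < n then (g : Matrix (Fin n) (Fin n) F) ⟨i, hi⟩ j else 0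
  have hcl : ∀ (i : Fin n) j, c j i.val = (g : Matrix (Fin n) (Fin n) F) i j := fun i j => by
    simp [c, i.isLt]
  intro i j hj hi
  rcases hk with rfl | rfl
  · obtain rfl : j = ⟨0, lt_of_lt_of_le Nat.one_pos hkn⟩ := Fin.ext (by simp; omega)
    let β : F := (B : Matrix (Fin n) (Fin n) F) ⟨0, by omega⟩ ⟨0, by omega⟩ - 1
    have hrec : ∀ s, s < n → c ⟨0, by omega⟩ (s + 1) = c ⟨0, by omega⟩ s * β + 0 * 0 := by
      intro s hs
      have h2 := hent ⟨s, hs⟩ ⟨0, by omega⟩ (by simp)
      rw [show Finset.univ.filter (fun l : Fin n => l.val < 1) = {⟨0, by omega⟩} by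
        ext l; simp [Fin.ext_iff], Finset.sum_singleton] at h2
      simp only [c, dif_pos hs, β]
      linear_combination h2
    by_cases hβ : β = 0
    · have := hrec (i.val - 1) (by omega)
      rw [hβ, Nat.sub_add_cancel hi, mul_zero, mul_zero, add_zero, hcl] at this
      exact this
    · have : ∀ d s, s + d = n → c ⟨0, by omega⟩ s = 0 := by
        intro d
        induction d with
        | zero => intro s hs; simp [c, show ¬ s < n by omega]
        | succ d ih =>
            intro s hs
            have := hrec s (by omega)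
            rw [ih (s + 1) (by omega), zero_mul, add_zero] at this
            exact (mul_eq_zero.1 this.symm).resolve_right hβ
      rw [← hcl]
      exact this (n - i.val) i.val (by omega)
  · let z : Fin n := ⟨0, by omega⟩
    let o : Fin n := ⟨1, by omega⟩
    have hzo : z ≠ o := by simp [z, o, Fin.ext_iff]
    have hrec : ∀ (j : Fin n), j.val < 2 → ∀ s, s < n →
        c j s + c j (s + 1) = c z s * (B : Matrix (Fin n) (Fin n) F) z j
          + c o s * (B : Matrix (Fin n) (Fin n) F) o j := by
      intro j hj s hs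
      have h2 := hent ⟨s, hs⟩ j hj
      rw [show Finset.univ.filter (fun l : Fin n => l.val < 2) = {z, o} by
        ext l; simp [z, o, Fin.ext_iff]; omega, Finset.sum_pair hzo] at h2
      simp only [c, dif_pos hs]
      exact h2
    have key := eq_zero_of_recursion (n := n) (c z) (c o)
      ((B : Matrix (Fin n) (Fin n) F) z z - 1) ((B : Matrix (Fin n) (Fin n) F) o z)
      ((B : Matrix (Fin n) (Fin n) F) z o) ((B : Matrix (Fin n) (Fin n) F) o o - 1)
      (fun s hs => by linear_combination hrec z (by simp [z]) s hs)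
      (fun s hs => by linear_combination hrec o (by simp [o]) s hs)
      (by simp [c]) (by simp [c]) i.val hi (by omega)
    rw [← hcl]
    rcases Nat.lt_or_ge j.val 1 with hj0 | hj1
    · rw [show j = z from Fin.ext (by simp [z]; omega)]
      exact key.1
    · rw [show j = o from Fin.ext (by simp [o]; omega)]
      exact key.2

/-- A transvection-like element of determinant one outside `colStab n 1`. -/
theorem exists_det_one_notMem_colStab (hn : 2 ≤ n) :
    ∃ g : GL (Fin n) F, (g : Matrix (Fin n) (Fin n) F).det = 1 ∧ g ∉ colStab F n 1 := by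
  let i : Fin n := ⟨1, by omega⟩
  let j : Fin n := ⟨0, by omega⟩
  have hij : i ≠ j := by simp [i, j, Fin.ext_iff]
  have hd : (Matrix.transvection i j (1 : F)).det = 1 := Matrix.det_transvection_of_ne i j hij 1
  refine ⟨Matrix.GeneralLinearGroup.mkOfDetNeZero _ (fun h0 => one_ne_zero (hd.symm.trans h0)), hd, fun h => ?_⟩
  have h1 : Matrix.transvection i j (1 : F) i j = 0 := h i j (by simp [j]) (by simp [i])
  simp [Matrix.transvection, hij] at h1

omit [Fintype F] in
theorem proj_mem_of_det_eq_one {G : Subgroup (GL (Fin n) F ⧸ Subgroup.center (GL (Fin n) F))}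
    (hG : ((Matrix.SpecialLinearGroup.toGL : Matrix.SpecialLinearGroup (Fin n) F →* GL (Fin n) F).range).map
      (proj F n) ≤ G) {g : GL (Fin n) F} (hg : (g : Matrix (Fin n) (Fin n) F).det = 1) :
    proj F n g ∈ G :=
  hG ⟨g, ⟨⟨_, hg⟩, Units.ext rfl⟩, rfl⟩

theorem no_minimal_cover_three (hn : 3 ≤ n)
    (G : Subgroup (GL (Fin n) F ⧸ Subgroup.center (GL (Fin n) F)))
    (hG : ((Matrix.SpecialLinearGroup.toGL : Matrix.SpecialLinearGroup (Fin n) F →* GL (Fin n) F).range).map
      (proj F n) ≤ G) :
    ¬ ∃ 𝓐 : Finset (Subgroup ↥G), MinimalNilpotentCover 𝓐 := by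
  classical
  -- exchange the second and third basis vectors
  let σ : Equiv.Perm (Fin n) := Equiv.swap ⟨1, by omega⟩ ⟨2, by omega⟩
  let Cm : Matrix (Fin n) (Fin n) F := Matrix.of fun i j => if σ i = j then 1 else 0
  have hCm : Cm * Cm = 1 := by
    ext i j
    rw [Matrix.mul_apply, Finset.sum_eq_single (σ i)]
    · simp [Cm, σ, Matrix.one_apply, Equiv.swap_apply_self]
    · intro l _ hl
      simp [Cm, Ne.symm hl]
    · simp
  let c : GL (Fin n) F := ⟨Cm, Cm, hCm, hCm⟩
  have hc1 : c ∈ colStab F n 1 := by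
    intro i j hj hi
    show Cm i j = 0
    simp only [Cm, Matrix.of_apply]
    rw [if_neg]
    intro e
    have hj0 : j = ⟨0, by omega⟩ := Fin.ext (by simp; omega)
    have : i = σ j := by rw [← e]; exact (Equiv.swap_apply_self _ _ i).symm
    rw [hj0, Equiv.swap_apply_of_ne_of_ne (by simp [Fin.ext_iff]) (by simp [Fin.ext_iff])] at this
    rw [this] at hi
    simp at hi
  have hc2 : c ∉ colStab F n 2 := by
    intro h
    have h1 : Cm ⟨2, by omega⟩ ⟨1, by omega⟩ = 0 := h ⟨2, by omega⟩ ⟨1, by omega⟩ (by simp) (by simp)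
    simp [Cm, σ] at h1
  have hJd : (jordan F n : Matrix (Fin n) (Fin n) F).det = 1 := det_jordanMat
  have hy : (((c * jordan F n * c⁻¹ : GL (Fin n) F)) : Matrix (Fin n) (Fin n) F).det = 1 := by
    rw [Units.val_mul, Units.val_mul, Matrix.det_mul, Matrix.det_mul, hJd, mul_one,
      ← Matrix.det_mul, c.mul_inv, Matrix.det_one]
  let x : ↥G := ⟨proj F n (jordan F n), proj_mem_of_det_eq_one hG hJd⟩
  let y : ↥G := ⟨proj F n (c * jordan F n * c⁻¹), proj_mem_of_det_eq_one hG hy⟩
  have hw : ∀ k, k = 1 ∨ k = 2 → ∀ q, q⁻¹ * proj F n (jordan F n) * q ∈ (colStab F n k).map (proj F n) →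
      q ∈ (colStab F n k).map (proj F n) := by
    intro k hk q hq
    obtain ⟨g, rfl⟩ := QuotientGroup.mk'_surjective _ q
    rw [← map_inv, ← map_mul, ← map_mul, proj_mem_colStab] at hq
    exact Subgroup.mem_map_of_mem _ (mem_colStab_of_conj hk (by omega) hq)
  have hnil : ∀ A : Subgroup ↥G, Group.IsNilpotent ↥A →
      Group.IsNilpotent ↥(A.map G.subtype) := fun A hA =>
    Group.nilpotent_of_mulEquiv (A.equivMapOfInjective G.subtype G.subtype_injective)
  refine not_exists_of_pair (M := ((colStab F n 1).map (proj F n)).subgroupOf G) ?_ x y ?_ ?_ ?_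
  · intro htop
    rw [Subgroup.subgroupOf_eq_top] at htop
    obtain ⟨g, hg, hg'⟩ := exists_det_one_notMem_colStab (F := F) (n := n) (by omega)
    exact hg' (proj_mem_colStab.1 (htop (proj_mem_of_det_eq_one hG hg)))
  · intro A hA hxA a ha
    exact le_of_conj_mem_imp (hnil A hA) (x := proj F n (jordan F n)) ⟨x, hxA, rfl⟩
      (Subgroup.mem_map_of_mem _ (jordan_mem_colStab 1)) (hw 1 (Or.inl rfl)) ⟨a, ha, rfl⟩
  · intro A hA hyA a ha
    refine le_of_conj_mem_imp (hnil A hA) (x := proj F n (c * jordan F n * c⁻¹)) ⟨y, hyA, rfl⟩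
      (Subgroup.mem_map_of_mem _ (mul_mem (mul_mem hc1 (jordan_mem_colStab 1)) (inv_mem hc1))) ?_
      ⟨a, ha, rfl⟩
    intro q hq
    have h1 : (proj F n c)⁻¹ * q ∈ (colStab F n 1).map (proj F n) := by
      apply hw 1 (Or.inl rfl)
      rw [map_mul, map_mul, map_inv] at hq
      convert hq using 1
      group
    have h2 := mul_mem (Subgroup.mem_map_of_mem (proj F n) hc1) h1
    rwa [mul_inv_cancel_left] at h2
  · intro A hA hxA hyA
    have hy2 : proj F n (c * jordan F n * c⁻¹) ∈ (colStab F n 2).map (proj F n) :=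
      le_of_conj_mem_imp (hnil A hA) (x := proj F n (jordan F n)) ⟨x, hxA, rfl⟩
        (Subgroup.mem_map_of_mem _ (jordan_mem_colStab 2)) (hw 2 (Or.inr rfl)) ⟨y, hyA, rfl⟩
    rw [proj_mem_colStab] at hy2
    have h2 : c⁻¹ ∈ colStab F n 2 := mem_colStab_of_conj (Or.inr rfl) (by omega) (by rwa [inv_inv])
    exact hc2 (inv_mem_iff.1 h2)

end CfsgLib.NilpotentCover.Projective
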