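import Cfsg.Agent.NilpotentCover.AbelianSylow
import Cfsg.Agent.NilpotentCover.Projective

/-!
No minimal cover by nilpotent subgroups for groups between `PSL(2,q)` and `PGL(2,q)`, `q ≥ 4`.
-/

set_option autoImplicit false

namespace CfsgLib.NilpotentCover.Projective

open Matrix

variable {F : Type*} [Field F]


theorem proj_eq_one_iff {g : (GL (Fin 2) F)} :
    proj F 2 g = 1 ↔ ∃ c : F, (g : (Matrix (Fin 2) (Fin 2) F)) = c • (1 : (Matrix (Fin 2) (Fin 2) F)) := by
  constructor
  · intro h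
    obtain ⟨c, hc⟩ := proj_eq_iff.1 (((map_one (proj F 2)).trans h.symm))
    exact ⟨c, by rw [hc, Units.val_one]⟩
  · rintro ⟨c, hc⟩
    have hc0 : c ≠ 0 := by
      rintro rfl
      rw [zero_smul] at hc
      exact g.ne_zero hc
    rw [← map_one (proj F 2)]
    exact (proj_eq_iff.2 ⟨Units.mk0 c hc0, by rw [hc, Units.val_one, Units.val_mk0]⟩).symm

/-- Commutant of a non-scalar two by two matrix. -/
theorem exists_lin_comb {y g : (Matrix (Fin 2) (Fin 2) F)} (hy : ¬ ∃ c : F, y = c • (1 : (Matrix (Fin 2) (Fin 2) F))) (h : g * y = y * g) :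
    ∃ α β : F, g = α • (1 : (Matrix (Fin 2) (Fin 2) F)) + β • y := by
  have e00 := congrFun (congrFun h 0) 0
  have e01 := congrFun (congrFun h 0) 1
  have e10 := congrFun (congrFun h 1) 0
  simp only [Matrix.mul_apply, Fin.sum_univ_two] at e00 e01 e10
  by_cases h01 : y 0 1 = 0
  · by_cases h10 : y 1 0 = 0
    · have hd : y 0 0 - y 1 1 ≠ 0 := by
        intro hd
        refine hy ⟨y 0 0, ?_⟩
        ext i j
        fin_cases i <;> fin_cases j <;> simp [h01, h10, sub_eq_zero.1 hd]
      have hg01 : g 0 1 = 0 := by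
        refine (mul_eq_zero.1 (?_ : g 0 1 * (y 0 0 - y 1 1) = 0)).resolve_right hd
        linear_combination (-1 : F) * e01 + (g 0 0 - g 1 1) * h01
      have hg10 : g 1 0 = 0 := by
        refine (mul_eq_zero.1 (?_ : g 1 0 * (y 0 0 - y 1 1) = 0)).resolve_right hd
        linear_combination e10 - (g 1 1 - g 0 0) * h10
      refine ⟨g 0 0 - (g 0 0 - g 1 1) / (y 0 0 - y 1 1) * y 0 0,
        (g 0 0 - g 1 1) / (y 0 0 - y 1 1), ?_⟩
      ext i j
      fin_cases i <;> fin_cases j <;> simp [h01, h10, hg01, hg10]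
      field_simp
      ring
    · refine ⟨g 0 0 - g 1 0 / y 1 0 * y 0 0, g 1 0 / y 1 0, ?_⟩
      ext i j
      fin_cases i <;> fin_cases j <;> simp <;> field_simp
      · linear_combination e00
      · linear_combination e10
  · refine ⟨g 0 0 - g 0 1 / y 0 1 * y 0 0, g 0 1 / y 0 1, ?_⟩
    ext i j
    fin_cases i <;> fin_cases j <;> simp <;> field_simp
    · linear_combination (-1 : F) * e00
    · linear_combination (-1 : F) * e01

theorem not_scalar_of_proj_ne_one {y : (GL (Fin 2) F)} (hy : proj F 2 y ≠ 1) :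
    ¬ ∃ c : F, (y : (Matrix (Fin 2) (Fin 2) F)) = c • (1 : (Matrix (Fin 2) (Fin 2) F)) :=
  fun h => hy (proj_eq_one_iff.2 h)

/-- Commuting in the projective group with an element whose square is nontrivial there is commuting. -/
theorem commute_of_proj {y g : (GL (Fin 2) F)} (hy : proj F 2 y * proj F 2 y ≠ 1)
    (h : proj F 2 g * proj F 2 y = proj F 2 y * proj F 2 g) : g * y = y * g := by
  rw [← map_mul, ← map_mul] at h
  obtain ⟨c, hc⟩ := proj_eq_iff.1 h
  rw [Units.val_mul, Units.val_mul] at hc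
  have hdet : (y : (Matrix (Fin 2) (Fin 2) F)).det * (g : (Matrix (Fin 2) (Fin 2) F)).det = (c : F) ^ 2 * ((g : (Matrix (Fin 2) (Fin 2) F)).det * (y : (Matrix (Fin 2) (Fin 2) F)).det) := by
    rw [← Matrix.det_mul, hc, Matrix.det_smul, Matrix.det_mul, Fintype.card_fin]
  have hg0 : (g : (Matrix (Fin 2) (Fin 2) F)).det ≠ 0 := (Matrix.isUnit_iff_isUnit_det _).1 g.isUnit |>.ne_zero
  have hy0 : (y : (Matrix (Fin 2) (Fin 2) F)).det ≠ 0 := (Matrix.isUnit_iff_isUnit_det _).1 y.isUnit |>.ne_zero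
  have hc2 : (c : F) ^ 2 = 1 := by
    apply mul_right_cancel₀ (mul_ne_zero hg0 hy0)
    linear_combination (-1 : F) * hdet
  rcases eq_or_ne (c : F) 1 with hc1 | hc1
  · apply Units.ext
    rw [Units.val_mul, Units.val_mul, hc, hc1, one_smul]
  · exfalso
    apply hy
    have hyc : (y : (Matrix (Fin 2) (Fin 2) F)) = (c : F) • ((g : (Matrix (Fin 2) (Fin 2) F)) * (y : (Matrix (Fin 2) (Fin 2) F)) * ((g⁻¹ : (GL (Fin 2) F)) : (Matrix (Fin 2) (Fin 2) F))) := by
      rw [← Matrix.smul_mul, ← hc, Matrix.mul_assoc, g.mul_inv, Matrix.mul_one]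
    have htr : (y : (Matrix (Fin 2) (Fin 2) F)).trace = (c : F) * (y : (Matrix (Fin 2) (Fin 2) F)).trace := by
      conv_lhs => rw [hyc]
      rw [Matrix.trace_smul, Matrix.mul_assoc, Matrix.trace_mul_comm, Matrix.mul_assoc, g.inv_mul,
        Matrix.mul_one, smul_eq_mul]
    have htr0 : (y : (Matrix (Fin 2) (Fin 2) F)).trace = 0 := by
      refine (mul_eq_zero.1 (?_ : ((c : F) - 1) * (y : (Matrix (Fin 2) (Fin 2) F)).trace = 0)).resolve_left
        (sub_ne_zero.2 hc1)
      linear_combination (-1 : F) * htr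
    rw [← map_mul, proj_eq_one_iff]
    refine ⟨-(y : (Matrix (Fin 2) (Fin 2) F)).det, ?_⟩
    rw [Units.val_mul]
    rw [Matrix.trace_fin_two] at htr0
    ext i j
    fin_cases i <;> fin_cases j <;> simp [Matrix.mul_apply, Matrix.det_fin_two]
    · linear_combination (y : (Matrix (Fin 2) (Fin 2) F)) 0 0 * htr0
    · linear_combination (y : (Matrix (Fin 2) (Fin 2) F)) 0 1 * htr0
    · linear_combination (y : (Matrix (Fin 2) (Fin 2) F)) 1 0 * htr0
    · linear_combination (y : (Matrix (Fin 2) (Fin 2) F)) 1 1 * htr0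

theorem commute_trans {y z g : (GL (Fin 2) F)} (hz : ¬ ∃ c : F, (z : (Matrix (Fin 2) (Fin 2) F)) = c • (1 : (Matrix (Fin 2) (Fin 2) F)))
    (hyz : y * z = z * y) (hgz : g * z = z * g) : g * y = y * g := by
  obtain ⟨α, β, e⟩ := exists_lin_comb hz (g := (y : (Matrix (Fin 2) (Fin 2) F))) (congrArg Units.val hyz)
  have hgz' : (g : (Matrix (Fin 2) (Fin 2) F)) * (z : (Matrix (Fin 2) (Fin 2) F)) = (z : (Matrix (Fin 2) (Fin 2) F)) * (g : (Matrix (Fin 2) (Fin 2) F)) := congrArg Units.val hgz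
  apply Units.ext
  rw [Units.val_mul, Units.val_mul, e]
  simp [Matrix.mul_add, Matrix.add_mul, hgz']

theorem proj_mem_centralizer_iff {y g : (GL (Fin 2) F)} (hy : proj F 2 y * proj F 2 y ≠ 1) :
    proj F 2 g ∈ (Subgroup.centralizer ({y} : Set (GL (Fin 2) F))).map (proj F 2) ↔ g * y = y * g := by
  refine ⟨?_, fun h => Subgroup.mem_map_of_mem _ (Subgroup.mem_centralizer_singleton_iff.2 h)⟩
  rintro ⟨h, hh, e⟩
  refine commute_of_proj hy ?_
  rw [← e, ← map_mul, ← map_mul, Subgroup.mem_centralizer_singleton_iff.1 hh]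

variable [Fintype F]

/-- A nilpotent subgroup containing an element of odd prime order centralizes it. -/
theorem le_centralizer_of_odd {r : ℕ} [Fact r.Prime] (hr : r ≠ 2) {y : (GL (Fin 2) F)}
    (hy : orderOf (proj F 2 y) = r)
    {A : Subgroup ((GL (Fin 2) F) ⧸ Subgroup.center (GL (Fin 2) F))} (hA : Group.IsNilpotent ↥A) (hyA : proj F 2 y ∈ A) :
    A ≤ (Subgroup.centralizer ({y} : Set (GL (Fin 2) F))).map (proj F 2) := by
  have hsq : ∀ z : (GL (Fin 2) F), (∃ i, orderOf (proj F 2 z) = r ^ i) → proj F 2 z ≠ 1 →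
      proj F 2 z * proj F 2 z ≠ 1 := by
    rintro z ⟨i, hi⟩ hz h
    rw [← sq] at h
    have h1 := orderOf_dvd_of_pow_eq_one h
    rw [hi] at h1
    have h2 : (r ^ i).Coprime 2 :=
      Nat.Coprime.pow_left i ((Nat.coprime_primes Fact.out Nat.prime_two).2 hr)
    exact hz (orderOf_eq_one_iff.1 (hi.trans (Nat.Coprime.eq_one_of_dvd h2 h1)))
  have hy1 : proj F 2 y ≠ 1 := fun h => by
    rw [h, orderOf_one] at hy
    exact (Fact.out : r.Prime).one_lt.ne hy
  obtain ⟨P, hPA, hPr, hmem, -⟩ := exists_pGroup_of_mem (p := r) hA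
  have hyP := hmem _ hyA ⟨1, by rw [hy, pow_one]⟩
  obtain ⟨w, hwP, hw1, hw⟩ := exists_central hPr.isNilpotent hyP hy1
  obtain ⟨z, rfl⟩ := QuotientGroup.mk'_surjective (Subgroup.center (GL (Fin 2) F)) w
  have hzo : ∃ i, orderOf (proj F 2 z) = r ^ i := by
    obtain ⟨i, hi⟩ := IsPGroup.iff_orderOf.1 hPr ⟨_, hwP⟩
    exact ⟨i, by rwa [Subgroup.orderOf_mk] at hi⟩
  have hyy := hsq y ⟨1, by rw [hy, pow_one]⟩ hy1
  have hzy : z * y = y * z := commute_of_proj hyy (hw _ hyP)
  intro a ha
  refine mem_of_parts (p := r) _ a ?_ ?_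
  · intro b hb hbr
    have hbP := hmem b (Subgroup.zpowers_le.2 ha hb) hbr
    obtain ⟨g, rfl⟩ := QuotientGroup.mk'_surjective (Subgroup.center (GL (Fin 2) F)) b
    refine (proj_mem_centralizer_iff hyy).2 ?_
    have hgz : g * z = z * g := commute_of_proj (hsq z hzo hw1) (hw _ hbP).symm
    exact commute_trans (not_scalar_of_proj_ne_one hw1) hzy.symm hgz
  · intro b hb hbr
    have hc := commute_of_coprime_mem hA (Subgroup.zpowers_le.2 ha hb) hyA
      (by rw [hy]; exact (((Fact.out : r.Prime).coprime_iff_not_dvd).2 hbr).symm)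
    obtain ⟨g, rfl⟩ := QuotientGroup.mk'_surjective (Subgroup.center (GL (Fin 2) F)) b
    exact (proj_mem_centralizer_iff hyy).2 (commute_of_proj hyy hc)

variable (G : Subgroup ((GL (Fin 2) F) ⧸ Subgroup.center (GL (Fin 2) F)))
  (hG : ((Matrix.SpecialLinearGroup.toGL : Matrix.SpecialLinearGroup (Fin 2) F →* (GL (Fin 2) F)).range).map
      (proj F 2) ≤ G)

include hG in
/-- The case of an odd prime dividing `q - 1`. -/
theorem no_minimal_cover_two_split (r : ℕ) [Fact r.Prime] (hr : r ≠ 2)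
    (hdvd : r ∣ Fintype.card F - 1) :
    ¬ ∃ 𝓐 : Finset (Subgroup ↥G), MinimalNilpotentCover 𝓐 := by
  classical
  obtain ⟨b, hb⟩ := exists_prime_orderOf_dvd_card' (G := Fˣ) r
    (by rw [Nat.card_units, Nat.card_eq_fintype_card]; exact hdvd)
  have hbne : (b : F) ≠ (b : F)⁻¹ := by
    intro h
    have h1 : b * b = 1 := Units.ext (by
      rw [Units.val_mul, Units.val_one]
      nth_rw 2 [h]
      exact mul_inv_cancel₀ b.ne_zero)
    have h2 : orderOf b ∣ 2 := orderOf_dvd_of_pow_eq_one (by rw [sq, h1])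
    rw [hb] at h2
    exact hr ((Nat.prime_dvd_prime_iff_eq Fact.out Nat.prime_two).1 h2)
  let D : (GL (Fin 2) F) := Matrix.GeneralLinearGroup.mkOfDetNeZero !![(b : F), 0; 0, (b : F)⁻¹]
    (by simp [Matrix.det_fin_two])
  have hD : (D : (Matrix (Fin 2) (Fin 2) F)) = !![(b : F), 0; 0, (b : F)⁻¹] := rfl
  have hDdet : (D : (Matrix (Fin 2) (Fin 2) F)).det = 1 := by simp [hD, Matrix.det_fin_two]
  have hDr : D ^ r = 1 := by
    apply Units.ext
    rw [Units.val_pow_eq_pow_val, Units.val_one,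
      show (D : (Matrix (Fin 2) (Fin 2) F)) = Matrix.diagonal ![(b : F), (b : F)⁻¹] by
        rw [hD]; ext i j; fin_cases i <;> fin_cases j <;> simp,
      Matrix.diagonal_pow]
    have h1 : (b : F) ^ r = 1 := by
      rw [← Units.val_pow_eq_pow_val, ← hb, pow_orderOf_eq_one, Units.val_one]
    ext i j
    fin_cases i <;> fin_cases j <;> simp [h1]
  have hDo : orderOf (proj F 2 D) = r := by
    refine orderOf_eq_prime (by rw [← map_pow, hDr, map_one]) fun h => hbne ?_
    obtain ⟨c, hc⟩ := proj_eq_one_iff.1 h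
    rw [hD] at hc
    have h0 := congrFun (congrFun hc 0) 0
    have h1 := congrFun (congrFun hc 1) 1
    simp at h0 h1
    exact h0.trans h1.symm
  let u : (GL (Fin 2) F) := jordan F 2
  let Y : (GL (Fin 2) F) := u * D * u⁻¹
  have hYdet : (Y : (Matrix (Fin 2) (Fin 2) F)).det = 1 := by
    simp only [Y, u, Units.val_mul]
    rw [Matrix.det_mul, Matrix.det_mul, hDdet, mul_one, ← Matrix.det_mul, (jordan F 2).mul_inv,
      Matrix.det_one]
  have hYo : orderOf (proj F 2 Y) = r := by
    rw [← hDo]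
    simp only [Y, map_mul, map_inv]
    exact MulEquiv.orderOf_eq (MulAut.conj (proj F 2 u)) (proj F 2 D)
  have hcD : ∀ g : (GL (Fin 2) F), g * D = D * g → g ∈ colStab F 2 1 := by
    intro g hg i j hj hi
    have h := congrFun (congrFun (congrArg (Units.val (α := (Matrix (Fin 2) (Fin 2) F))) hg) 1) 0
    simp [Matrix.mul_apply, hD] at h
    obtain rfl : i = 1 := Fin.ext (by simp; omega)
    obtain rfl : j = 0 := Fin.ext (by simp; omega)
    by_contra hne
    exact hbne (mul_left_cancel₀ hne (h.trans (mul_comm _ _)))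
  let x : ↥G := ⟨proj F 2 D, proj_mem_of_det_eq_one hG hDdet⟩
  let y : ↥G := ⟨proj F 2 Y, proj_mem_of_det_eq_one hG hYdet⟩
  have hnil : ∀ A : Subgroup ↥G, Group.IsNilpotent ↥A →
      Group.IsNilpotent ↥(A.map G.subtype) := fun A hA =>
    Group.nilpotent_of_mulEquiv (A.equivMapOfInjective G.subtype G.subtype_injective)
  refine not_exists_of_pair (M := ((colStab F 2 1).map (proj F 2)).subgroupOf G) ?_ x y ?_ ?_ ?_
  · intro htop
    rw [Subgroup.subgroupOf_eq_top] at htop
    obtain ⟨g, hg, hg'⟩ := exists_det_one_notMem_colStab (F := F) (n := 2) le_rfl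
    exact hg' (proj_mem_colStab.1 (htop (proj_mem_of_det_eq_one hG hg)))
  · intro A hA hxA a ha
    obtain ⟨g, hg, e⟩ := le_centralizer_of_odd hr hDo (hnil A hA) ⟨x, hxA, rfl⟩ ⟨a, ha, rfl⟩
    exact ⟨g, hcD g (Subgroup.mem_centralizer_singleton_iff.1 hg), e⟩
  · intro A hA hyA a ha
    obtain ⟨g, hg, e⟩ := le_centralizer_of_odd hr hYo (hnil A hA) ⟨y, hyA, rfl⟩ ⟨a, ha, rfl⟩
    refine ⟨g, ?_, e⟩
    have hg' : g * Y = Y * g := Subgroup.mem_centralizer_singleton_iff.1 hg
    have h1 : u⁻¹ * g * u ∈ colStab F 2 1 := by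
      apply hcD
      calc u⁻¹ * g * u * D = u⁻¹ * (g * Y) * u := by simp only [Y]; group
        _ = u⁻¹ * (Y * g) * u := by rw [hg']
        _ = D * (u⁻¹ * g * u) := by simp only [Y]; group
    have hu : u ∈ colStab F 2 1 := jordan_mem_colStab 1
    have h2 := mul_mem (mul_mem hu h1) (inv_mem hu)
    rwa [show u * (u⁻¹ * g * u) * u⁻¹ = g by group] at h2
  · intro A hA hxA hyA
    have hDD : proj F 2 D * proj F 2 D ≠ 1 := by
      intro h
      have h2 : orderOf (proj F 2 D) ∣ 2 := orderOf_dvd_of_pow_eq_one (by rw [sq, h])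
      rw [hDo] at h2
      exact hr ((Nat.prime_dvd_prime_iff_eq Fact.out Nat.prime_two).1 h2)
    have hYD : Y * D = D * Y := (proj_mem_centralizer_iff hDD).1
      (le_centralizer_of_odd hr hDo (hnil A hA) ⟨x, hxA, rfl⟩ ⟨y, hyA, rfl⟩)
    -- so `u` normalizes the torus elementwise: impossible
    have hYu : (Y : (Matrix (Fin 2) (Fin 2) F)) * (u : (Matrix (Fin 2) (Fin 2) F)) = (u : (Matrix (Fin 2) (Fin 2) F)) * (D : (Matrix (Fin 2) (Fin 2) F)) := by
      rw [← Units.val_mul, ← Units.val_mul]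
      congr 1
      simp only [Y]
      group
    have hYd := congrFun (congrFun (congrArg (Units.val (α := (Matrix (Fin 2) (Fin 2) F))) hYD) 0) 1
    have h00 := congrFun (congrFun hYu 0) 0
    have h01 := congrFun (congrFun hYu 0) 1
    simp [Matrix.mul_apply, hD, u, coe_jordan, jordanMat] at hYd h00 h01
    rw [h00] at h01
    have hY01 : (Y : (Matrix (Fin 2) (Fin 2) F)) 0 1 = 0 := by
      by_contra hne
      exact hbne (mul_left_cancel₀ hne (hYd.trans (mul_comm _ _))).symm
    rw [hY01, add_zero] at h01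
    exact hbne h01

/-- A point of the projective line, as a matrix moving the first basis vector to it. -/
noncomputable def pointGL (F : Type*) [Field F] : Option F → GL (Fin 2) F
  | none => 1
  | some a => Matrix.GeneralLinearGroup.mkOfDetNeZero !![a, -1; 1, 0] (by simp [Matrix.det_fin_two])

omit [Fintype F] in
theorem det_pointGL (P : Option F) : (pointGL F P : (Matrix (Fin 2) (Fin 2) F)).det = 1 := by
  cases P <;> simp [pointGL, Matrix.GeneralLinearGroup.mkOfDetNeZero,
    Matrix.det_fin_two]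

omit [Fintype F] in
/-- The lower left entry of `g_P⁻¹ X g_P`. -/
theorem conj_point_entry (a : F) (X : (GL (Fin 2) F)) :
    (((pointGL F (some a))⁻¹ * X * pointGL F (some a) : (GL (Fin 2) F)) : (Matrix (Fin 2) (Fin 2) F)) 1 0
      = a * ((X : (Matrix (Fin 2) (Fin 2) F)) 1 0 * a + (X : (Matrix (Fin 2) (Fin 2) F)) 1 1) - ((X : (Matrix (Fin 2) (Fin 2) F)) 0 0 * a + (X : (Matrix (Fin 2) (Fin 2) F)) 0 1) := by
  have h : (pointGL F (some a) : (Matrix (Fin 2) (Fin 2) F)) * (((pointGL F (some a))⁻¹ * X * pointGL F (some a) : (GL (Fin 2) F)) : (Matrix (Fin 2) (Fin 2) F))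
      = (X : (Matrix (Fin 2) (Fin 2) F)) * (pointGL F (some a) : (Matrix (Fin 2) (Fin 2) F)) := by
    rw [← Units.val_mul, ← Units.val_mul]
    congr 1
    group
  generalize (((pointGL F (some a))⁻¹ * X * pointGL F (some a) : (GL (Fin 2) F)) : (Matrix (Fin 2) (Fin 2) F)) = Z at h ⊢
  have h0 := congrFun (congrFun h 0) 0
  have h1 := congrFun (congrFun h 1) 0
  have hv : (pointGL F (some a) : (Matrix (Fin 2) (Fin 2) F)) = !![a, -1; 1, 0] := rfl
  simp [Matrix.mul_apply, hv] at h0 h1
  linear_combination a * h1 - h0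

theorem mem_colStab_two {g : (GL (Fin 2) F)} : g ∈ colStab F 2 1 ↔ (g : (Matrix (Fin 2) (Fin 2) F)) 1 0 = 0 := by
  refine ⟨fun h => h 1 0 (by simp) (by simp), fun h i j hj hi => ?_⟩
  obtain rfl : i = 1 := Fin.ext (by simp; omega)
  obtain rfl : j = 0 := Fin.ext (by simp; omega)
  exact h

set_option maxHeartbeats 1600000 in
include hG in
/-- The case where `q - 1` is a power of two. -/
theorem no_minimal_cover_two_fermat (k : ℕ) (hk : 2 ≤ k) (hq : Fintype.card F = 2 ^ k + 1) :
    ¬ ∃ 𝓐 : Finset (Subgroup ↥G), MinimalNilpotentCover 𝓐 := by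
  classical
  rintro ⟨𝓐, h𝓐⟩
  have hnil : ∀ A ∈ 𝓐, Group.IsNilpotent ↥(A.map G.subtype) := fun A hA => by
    have := h𝓐.2.2 A hA
    exact Group.nilpotent_of_mulEquiv (A.equivMapOfInjective G.subtype G.subtype_injective)
  -- the prime `r` dividing `(q+1)/2`
  obtain ⟨r, hrp, hrdvd⟩ := Nat.exists_prime_and_dvd (n := 2 ^ (k - 1) + 1)
    (by have : 0 < 2 ^ (k - 1) := Nat.two_pow_pos _; omega)
  have := Fact.mk hrp
  have hr : r ≠ 2 := by
    rintro rfl
    have : 2 ∣ 2 ^ (k - 1) := dvd_pow_self 2 (by omega)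
    omega
  have hrq : r.Coprime (2 ^ k) := Nat.Coprime.pow_right k ((Nat.coprime_primes hrp Nat.prime_two).2 hr)
  -- unipotent elements
  let p := ringChar F
  have hpp : p.Prime := CharP.char_is_prime F p
  have hp : p ≠ 2 := by
    intro h
    have := FiniteField.cast_card_eq_zero F
    rw [hq] at this
    have h2 : (2 : F) = 0 := by
      have := CharP.cast_eq_zero F p
      rw [h] at this
      exact_mod_cast this
    push_cast at this
    rw [h2, zero_pow (by omega), zero_add] at this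
    exact one_ne_zero this
  have := Fact.mk hpp
  let J := jordan F 2
  have hJ : ∀ m : ℕ, ((J ^ m : (GL (Fin 2) F)) : (Matrix (Fin 2) (Fin 2) F)) = !![1, (m : F); 0, 1] := by
    intro m
    induction m with
    | zero => rw [pow_zero, Units.val_one]; ext i j; fin_cases i <;> fin_cases j <;> simp
    | succ m ih =>
        rw [pow_succ, Units.val_mul, ih]
        ext i j
        fin_cases i <;> fin_cases j <;> simp [J, coe_jordan, jordanMat, Matrix.mul_apply, add_comm]
  let U : Option F → (GL (Fin 2) F) := fun P => pointGL F P * J * (pointGL F P)⁻¹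
  have hUdet : ∀ P, (U P : (Matrix (Fin 2) (Fin 2) F)).det = 1 := fun P => by
    simp only [U, Units.val_mul, Matrix.det_mul]
    have h1 : (J : (Matrix (Fin 2) (Fin 2) F)).det = 1 := det_jordanMat
    rw [h1, mul_one, ← Matrix.det_mul, (pointGL F P).mul_inv, Matrix.det_one]
  have hJns : ¬ ∃ c : F, (J : (Matrix (Fin 2) (Fin 2) F)) = c • (1 : (Matrix (Fin 2) (Fin 2) F)) := by
    rintro ⟨c, hc⟩
    simpa [J, coe_jordan, jordanMat] using congrFun (congrFun hc 0) 1
  have hUo : ∀ P, orderOf (proj F 2 (U P)) = p := by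
    intro P
    simp only [U, map_mul, map_inv]
    refine (MulEquiv.orderOf_eq (MulAut.conj (proj F 2 (pointGL F P))) (proj F 2 J)).trans ?_
    refine orderOf_eq_prime ?_ fun h => hJns (proj_eq_one_iff.1 h)
    rw [← map_pow, proj_eq_one_iff]
    refine ⟨1, ?_⟩
    rw [hJ, CharP.cast_eq_zero F p, one_smul]
    ext i j
    fin_cases i <;> fin_cases j <;> simp
  have hsq : ∀ (X : (GL (Fin 2) F)) (s : ℕ), s.Prime → s ≠ 2 → orderOf (proj F 2 X) = s →
      proj F 2 X * proj F 2 X ≠ 1 := fun X s hs hs2 ho h => by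
    have h2 : orderOf (proj F 2 X) ∣ 2 := orderOf_dvd_of_pow_eq_one (by rw [sq, h])
    rw [ho] at h2
    exact hs2 ((Nat.prime_dvd_prime_iff_eq hs Nat.prime_two).1 h2)
  -- Borel subgroups
  let B : Option F → Subgroup ↥G := fun P =>
    (((colStab F 2 1).map (MulAut.conj (pointGL F P)).toMonoidHom).map (proj F 2)).subgroupOf G
  have hB : ∀ P (g : (GL (Fin 2) F)) (hg : proj F 2 g ∈ G),
      (⟨proj F 2 g, hg⟩ : ↥G) ∈ B P ↔ (pointGL F P)⁻¹ * g * pointGL F P ∈ colStab F 2 1 := by
    intro P g hg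
    constructor
    · intro h
      obtain ⟨-, ⟨c, hc, rfl⟩, e⟩ := h
      have e' : proj F 2 c = proj F 2 ((pointGL F P)⁻¹ * g * pointGL F P) := by
        simp only [MulEquiv.coe_toMonoidHom, MulAut.conj_apply, map_mul, map_inv,
          Subgroup.coe_subtype] at e
        rw [map_mul, map_mul, map_inv, ← e]
        group
      exact proj_mem_colStab.1 (e' ▸ Subgroup.mem_map_of_mem _ hc)
    · intro h
      refine ⟨g, ⟨_, h, ?_⟩, rfl⟩
      simp only [MulEquiv.coe_toMonoidHom, MulAut.conj_apply]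
      group
  let uEl : Option F → ↥G := fun P => ⟨proj F 2 (U P), proj_mem_of_det_eq_one hG (hUdet P)⟩
  have hUU : ∀ P Q, uEl P ∈ B Q → P = Q := by
    intro P Q h
    rw [hB] at h
    have h1 : (pointGL F P)⁻¹ * pointGL F Q ∈ colStab F 2 1 := by
      refine mem_colStab_of_conj (Or.inl rfl) (by norm_num) ?_
      convert h using 1
      simp only [U, J]
      group
    rw [mem_colStab_two] at h1
    obtain ⟨N, hN⟩ : ∃ N, (pointGL F P)⁻¹ * pointGL F Q = N := ⟨_, rfl⟩
    rw [hN] at h1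
    have hQ : (pointGL F P : (Matrix (Fin 2) (Fin 2) F)) * (N : (Matrix (Fin 2) (Fin 2) F)) = (pointGL F Q : (Matrix (Fin 2) (Fin 2) F)) := by
      rw [← Units.val_mul, ← hN]
      congr 1
      group
    have e0 := congrFun (congrFun hQ 0) 0
    have e1 := congrFun (congrFun hQ 1) 0
    cases P <;> cases Q <;>
      simp [pointGL, Matrix.GeneralLinearGroup.mkOfDetNeZero,
        Matrix.mul_apply, h1] at e0 e1 ⊢
    all_goals first
      | (rw [e1, mul_one] at e0; exact e0)
      | simp [e1] at e0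
  have hmemB : ∀ A ∈ 𝓐, ∀ P, uEl P ∈ A → A ≤ B P := by
    intro A hA P hP
    refine le_of_conj_mem_imp (h𝓐.2.2 A hA) hP ?_ ?_
    · rw [hB]
      convert jordan_mem_colStab (F := F) (n := 2) 1 using 1
      simp only [U, J]
      group
    · rintro ⟨q, hq⟩ hmem
      obtain ⟨g, rfl⟩ := QuotientGroup.mk'_surjective (Subgroup.center (GL (Fin 2) F)) q
      rw [hB]
      have e : (⟨proj F 2 g, hq⟩ : ↥G)⁻¹ * uEl P * ⟨proj F 2 g, hq⟩
          = ⟨proj F 2 (g⁻¹ * U P * g), by
              rw [map_mul, map_mul, map_inv]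
              exact mul_mem (mul_mem (inv_mem hq) (uEl P).2) hq⟩ := by
        apply Subtype.ext
        simp [uEl]
      rw [e, hB] at hmem
      apply mem_colStab_of_conj (Or.inl rfl) (by norm_num)
      convert hmem using 1
      simp only [U, J]
      group
  -- irreducible monic quadratics and their tori
  let Irr := {tb : F × F // ∀ μ : F, μ * μ ≠ tb.1 * μ + tb.2}
  have hdet0 : ∀ (tb : Irr) (α β : F), ¬ (α = 0 ∧ β = 0) →
      α * α + α * β * tb.1.1 - β * β * tb.1.2 ≠ 0 := by
    intro tb α β hne h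
    by_cases hβ : β = 0
    · rw [hβ] at h
      simp at h
      exact hne ⟨h, hβ⟩
    · refine tb.2 (-(α / β)) ?_
      field_simp
      linear_combination h
  have hb0 : ∀ tb : Irr, tb.1.2 ≠ 0 := fun tb h => tb.2 0 (by rw [h]; ring)
  let C : Irr → (GL (Fin 2) F) := fun tb => Matrix.GeneralLinearGroup.mkOfDetNeZero !![tb.1.1, tb.1.2; 1, 0]
    (by simp [Matrix.det_fin_two]; exact hb0 tb)
  have hC : ∀ tb, (C tb : (Matrix (Fin 2) (Fin 2) F)) = !![tb.1.1, tb.1.2; 1, 0] := fun tb => rfl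
  have hCns : ∀ tb, ¬ ∃ c : F, (C tb : (Matrix (Fin 2) (Fin 2) F)) = c • (1 : (Matrix (Fin 2) (Fin 2) F)) := by
    rintro tb ⟨c, hc⟩
    simpa [hC] using congrFun (congrFun hc 1) 0
  have hCU : ∀ (P : Option F) tb, U P * C tb ≠ C tb * U P := by
    intro P tb h
    have h1 : (pointGL F P)⁻¹ * C tb * pointGL F P * J
        = J * ((pointGL F P)⁻¹ * C tb * pointGL F P) := by
      calc (pointGL F P)⁻¹ * C tb * pointGL F P * J
          = (pointGL F P)⁻¹ * (C tb * U P) * pointGL F P := by simp only [U]; group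
        _ = (pointGL F P)⁻¹ * (U P * C tb) * pointGL F P := by rw [h]
        _ = J * ((pointGL F P)⁻¹ * C tb * pointGL F P) := by simp only [U]; group
    obtain ⟨α, β, e⟩ := exists_lin_comb hJns (congrArg (Units.val (α := (Matrix (Fin 2) (Fin 2) F))) h1)
    have e10 := congrFun (congrFun e 1) 0
    cases P with
    | none => simp [pointGL, hC, J, coe_jordan, jordanMat] at e10
    | some a =>
        rw [conj_point_entry] at e10
        simp [hC, J, coe_jordan, jordanMat] at e10
        exact tb.2 a (by linear_combination e10)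
  have hY : ∀ tb, ∃ Y : (GL (Fin 2) F), Y * C tb = C tb * Y ∧ (Y : (Matrix (Fin 2) (Fin 2) F)).det = 1 ∧
      orderOf (proj F 2 Y) = r := by
    intro tb
    let Z : Subgroup (GL (Fin 2) F) := Subgroup.centralizer ({C tb} : Set (GL (Fin 2) F))
    let toZ : {v : F × F // v ≠ (0, 0)} → ↥Z := fun v =>
      ⟨Matrix.GeneralLinearGroup.mkOfDetNeZero !![v.1.1 + v.1.2 * tb.1.1, v.1.2 * tb.1.2; v.1.2, v.1.1]
        (by
          rw [Matrix.det_fin_two_of]
          intro h
          refine hdet0 tb v.1.1 v.1.2 (fun hh => v.2 (Prod.ext hh.1 hh.2)) ?_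
          linear_combination h),
        Subgroup.mem_centralizer_singleton_iff.2 (Units.ext (by
          rw [Units.val_mul, Units.val_mul]
          ext i j
          fin_cases i <;> fin_cases j <;>
            simp [Matrix.GeneralLinearGroup.mkOfDetNeZero, hC,
              Matrix.mul_apply] <;> ring))⟩
    have hbij : Function.Bijective toZ := by
      constructor
      · intro v w h
        have h' := congrArg (fun z : ↥Z => ((z : (GL (Fin 2) F)) : (Matrix (Fin 2) (Fin 2) F))) h
        have e1 := congrFun (congrFun h' 1) 0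
        have e2 := congrFun (congrFun h' 1) 1
        simp [toZ, Matrix.GeneralLinearGroup.mkOfDetNeZero] at e1 e2
        exact Subtype.ext (Prod.ext e2 e1)
      · rintro ⟨g, hg⟩
        obtain ⟨α, β, e⟩ := exists_lin_comb (hCns tb)
          (congrArg (Units.val (α := (Matrix (Fin 2) (Fin 2) F))) (Subgroup.mem_centralizer_singleton_iff.1 hg))
        have hne : ((α, β) : F × F) ≠ (0, 0) := by
          intro h
          have h1 : α = 0 := congrArg Prod.fst h
          have h2 : β = 0 := congrArg Prod.snd h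
          rw [h1, h2, zero_smul, zero_smul, add_zero] at e
          exact g.ne_zero e
        refine ⟨⟨(α, β), hne⟩, ?_⟩
        apply Subtype.ext
        apply Units.ext
        refine Eq.trans ?_ e.symm
        rw [hC]
        ext i j
        fin_cases i <;> fin_cases j <;>
          simp [toZ, Matrix.GeneralLinearGroup.mkOfDetNeZero]
    have hcard : Nat.card ↥Z = Fintype.card F * Fintype.card F - 1 := by
      rw [← Nat.card_eq_of_bijective _ hbij, Nat.card_eq_fintype_card]
      have h := Fintype.card_subtype_compl (fun v : F × F => v = (0, 0))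
      rw [Fintype.card_subtype_eq, Fintype.card_prod] at h
      exact h
    obtain ⟨⟨w, hwZ⟩, hw⟩ := exists_prime_orderOf_dvd_card' (G := ↥Z) r (by
      rw [hcard]
      have h1 : 2 * (2 ^ (k - 1) + 1) = Fintype.card F + 1 := by
        rw [hq, mul_add, ← pow_succ', Nat.sub_add_cancel (by omega : 1 ≤ k)]
      have h2 : Fintype.card F * Fintype.card F - 1 = (Fintype.card F + 1) * (Fintype.card F - 1) := by
        rw [← Nat.sq_sub_sq, one_pow, sq]
      rw [h2, ← h1]
      exact Dvd.dvd.mul_right (Dvd.dvd.mul_left hrdvd 2) _)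
    rw [Subgroup.orderOf_mk] at hw
    have hwr : w ^ r = 1 := hw ▸ pow_orderOf_eq_one w
    have hdet : (w : (Matrix (Fin 2) (Fin 2) F)).det = 1 := by
      let d : Fˣ := Matrix.GeneralLinearGroup.det w
      have hd1 : d ^ r = 1 := by rw [← map_pow, hwr, map_one]
      have hd2 : d ^ (2 ^ k) = 1 := by
        apply Units.ext
        rw [Units.val_pow_eq_pow_val, Units.val_one]
        have := FiniteField.pow_card_sub_one_eq_one (d : F) d.ne_zero
        rwa [hq, Nat.add_sub_cancel] at this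
      have hd3 := pow_gcd_eq_one.2 ⟨hd1, hd2⟩
      rw [hrq.gcd_eq_one, pow_one] at hd3
      exact congrArg Units.val hd3
    refine ⟨w, Subgroup.mem_centralizer_singleton_iff.1 hwZ, hdet, ?_⟩
    refine orderOf_eq_prime (by rw [← map_pow, hwr, map_one]) fun h => ?_
    obtain ⟨c, hc⟩ := proj_eq_one_iff.1 h
    rw [hc, Matrix.det_smul, Matrix.det_one, mul_one, Fintype.card_fin] at hdet
    have hcr : c ^ r = 1 := by
      have h1 := congrArg (Units.val (α := (Matrix (Fin 2) (Fin 2) F))) hwr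
      rw [Units.val_pow_eq_pow_val, hc, smul_pow, one_pow, Units.val_one] at h1
      simpa using congrFun (congrFun h1 0) 0
    have hc3 := pow_gcd_eq_one.2 ⟨hcr, hdet⟩
    rw [((Nat.coprime_primes hrp Nat.prime_two).2 hr).gcd_eq_one, pow_one] at hc3
    have : w = 1 := Units.ext (by rw [hc, hc3, one_smul, Units.val_one])
    rw [this, orderOf_one] at hw
    exact hrp.one_lt.ne hw
  choose Y hYC hYdet hYo using hY
  have hYns : ∀ tb, ¬ ∃ c : F, (Y tb : (Matrix (Fin 2) (Fin 2) F)) = c • (1 : (Matrix (Fin 2) (Fin 2) F)) := fun tb =>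
    not_scalar_of_proj_ne_one fun h => by
      have := hYo tb
      rw [h, orderOf_one] at this
      exact hrp.one_lt.ne this
  let yEl : Irr → ↥G := fun tb => ⟨proj F 2 (Y tb), proj_mem_of_det_eq_one hG (hYdet tb)⟩
  let T : Irr → Subgroup ↥G := fun tb =>
    ((Subgroup.centralizer ({C tb} : Set (GL (Fin 2) F))).map (proj F 2)).subgroupOf G
  have hmemT : ∀ A ∈ 𝓐, ∀ tb, yEl tb ∈ A → ∀ (g : (GL (Fin 2) F)) (hg : proj F 2 g ∈ G),
      (⟨proj F 2 g, hg⟩ : ↥G) ∈ A → g * C tb = C tb * g := by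
    intro A hA tb htb g hg hgA
    have h1 := (proj_mem_centralizer_iff (hsq _ r hrp hr (hYo tb))).1
      (le_centralizer_of_odd hr (hYo tb) (hnil A hA) ⟨_, htb, rfl⟩ ⟨_, hgA, rfl⟩)
    exact commute_trans (hYns tb) (hYC tb).symm h1
  -- the split torus element
  obtain ⟨e, he⟩ := IsCyclic.exists_generator (α := Fˣ)
  have heo : orderOf e = 2 ^ k := by
    rw [orderOf_eq_card_of_forall_mem_zpowers he, Nat.card_units, Nat.card_eq_fintype_card, hq,
      Nat.add_sub_cancel]
  have hene : (e : F) ≠ (e : F)⁻¹ := by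
    intro h
    have h1 : e * e = 1 := Units.ext (by
      rw [Units.val_mul, Units.val_one]
      nth_rw 2 [h]
      exact mul_inv_cancel₀ e.ne_zero)
    have h2 : orderOf e ∣ 2 := orderOf_dvd_of_pow_eq_one (by rw [sq, h1])
    rw [heo] at h2
    have h3 := Nat.le_of_dvd two_pos h2
    have h4 : 2 ^ 2 ≤ 2 ^ k := Nat.pow_le_pow_right two_pos hk
    omega
  let D : (GL (Fin 2) F) := Matrix.GeneralLinearGroup.mkOfDetNeZero !![(e : F), 0; 0, (e : F)⁻¹]
    (by simp [Matrix.det_fin_two])
  have hD : (D : (Matrix (Fin 2) (Fin 2) F)) = !![(e : F), 0; 0, (e : F)⁻¹] := rfl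
  have hDdet : (D : (Matrix (Fin 2) (Fin 2) F)).det = 1 := by simp [hD, Matrix.det_fin_two]
  have hDo : orderOf (proj F 2 D) ∣ 2 ^ k := by
    apply orderOf_dvd_of_pow_eq_one
    rw [← map_pow, proj_eq_one_iff]
    refine ⟨1, ?_⟩
    rw [Units.val_pow_eq_pow_val, one_smul,
      show (D : (Matrix (Fin 2) (Fin 2) F)) = Matrix.diagonal ![(e : F), (e : F)⁻¹] by
        rw [hD]; ext i j; fin_cases i <;> fin_cases j <;> simp,
      Matrix.diagonal_pow]
    have h1 : (e : F) ^ (2 ^ k) = 1 := by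
      rw [← Units.val_pow_eq_pow_val, ← heo, pow_orderOf_eq_one, Units.val_one]
    ext i j
    fin_cases i <;> fin_cases j <;> simp [h1]
  let dEl : ↥G := ⟨proj F 2 D, proj_mem_of_det_eq_one hG hDdet⟩
  have hDc : ∀ A ∈ 𝓐, dEl ∈ A → ∀ (X : (GL (Fin 2) F)) (hX : proj F 2 X ∈ G) (s : ℕ), s.Prime → s ≠ 2 →
      orderOf (proj F 2 X) = s → (⟨proj F 2 X, hX⟩ : ↥G) ∈ A → D * X = X * D := by
    intro A hA hd X hX s hs hs2 ho hXA
    refine commute_of_proj (hsq X s hs hs2 ho) ?_
    refine commute_of_coprime_mem (hnil A hA) ⟨_, hd, rfl⟩ ⟨_, hXA, rfl⟩ ?_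
    change (orderOf (proj F 2 D)).Coprime (orderOf (proj F 2 X))
    rw [ho]
    exact Nat.Coprime.coprime_dvd_left hDo
      (Nat.Coprime.pow_left k ((Nat.coprime_primes Nat.prime_two hs).2 (Ne.symm hs2)))
  -- distinct members
  let el : (Option F ⊕ Irr) ⊕ Unit → ↥G := Sum.elim (Sum.elim uEl yEl) (fun _ => dEl)
  have hmem : ∀ i, ∃ A ∈ 𝓐, el i ∈ A := fun i => h𝓐.1.2 (el i)
  choose f hf hfi using hmem
  have hUY : ∀ P tb, f (Sum.inl (Sum.inl P)) ≠ f (Sum.inl (Sum.inr tb)) := by
    intro P tb h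
    exact hCU P tb (hmemT _ (hf _) tb (hfi (Sum.inl (Sum.inr tb))) (U P)
      (proj_mem_of_det_eq_one hG (hUdet P)) (h ▸ hfi (Sum.inl (Sum.inl P))))
  have hUD : ∀ P u, f (Sum.inl (Sum.inl P)) ≠ f (Sum.inr u) := by
    intro P u h
    have hc := hDc _ (hf (Sum.inr u)) (hfi (Sum.inr u)) (U P)
      (proj_mem_of_det_eq_one hG (hUdet P)) p hpp hp (hUo P) (h ▸ hfi (Sum.inl (Sum.inl P)))
    have h1 : (pointGL F P)⁻¹ * D * pointGL F P * J
        = J * ((pointGL F P)⁻¹ * D * pointGL F P) := by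
      calc (pointGL F P)⁻¹ * D * pointGL F P * J
          = (pointGL F P)⁻¹ * (D * U P) * pointGL F P := by simp only [U]; group
        _ = (pointGL F P)⁻¹ * (U P * D) * pointGL F P := by rw [hc]
        _ = J * ((pointGL F P)⁻¹ * D * pointGL F P) := by simp only [U]; group
    obtain ⟨α, β, eX⟩ := exists_lin_comb hJns (congrArg (Units.val (α := (Matrix (Fin 2) (Fin 2) F))) h1)
    have htr := congrArg Matrix.trace eX
    have hdd := congrArg Matrix.det eX
    rw [Units.val_mul, Units.val_mul, Matrix.trace_mul_cycle, (pointGL F P).mul_inv,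
      Matrix.one_mul] at htr
    rw [Units.val_mul, Units.val_mul, Matrix.det_mul_right_comm, (pointGL F P).inv_mul,
      Matrix.one_mul] at hdd
    simp [hD, J, coe_jordan, jordanMat, Matrix.trace_fin_two, Matrix.det_fin_two] at htr hdd
    apply hene
    have h2 : ((e : F) - (e : F)⁻¹) ^ 2 = 0 := by
      have h3 : (e : F) * (e : F)⁻¹ = 1 := mul_inv_cancel₀ e.ne_zero
      linear_combination ((e : F) + (e : F)⁻¹ + 2 * (α + β)) * htr - 4 * hdd - 4 * h3
    exact sub_eq_zero.1 (pow_eq_zero_iff two_ne_zero |>.1 h2)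
  have hYD : ∀ tb u, f (Sum.inl (Sum.inr tb)) ≠ f (Sum.inr u) := by
    intro tb u h
    have h1 := hmemT _ (hf _) tb (hfi (Sum.inl (Sum.inr tb))) D
      (proj_mem_of_det_eq_one hG hDdet) (h.symm ▸ hfi (Sum.inr u))
    have h2 := congrFun (congrFun (congrArg (Units.val (α := (Matrix (Fin 2) (Fin 2) F))) h1) 0) 1
    simp [hD, hC, Matrix.mul_apply] at h2
    exact hene (mul_right_cancel₀ (hb0 tb) (h2.trans (mul_comm _ _)))
  have hinj : Function.Injective f := by
    rintro ((P | tb) | u) ((Q | tb') | v) h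
    · rw [hUU P Q (hmemB _ (hf _) Q (hfi (Sum.inl (Sum.inl Q))) (h ▸ hfi (Sum.inl (Sum.inl P))))]
    · exact absurd h (hUY P tb')
    · exact absurd h (hUD P v)
    · exact absurd h.symm (hUY Q tb)
    · have hYC' : Y tb * C tb' = C tb' * Y tb :=
        hmemT _ (hf _) tb' (hfi (Sum.inl (Sum.inr tb'))) (Y tb)
          (proj_mem_of_det_eq_one hG (hYdet tb)) (h ▸ hfi (Sum.inl (Sum.inr tb)))
      have hCC := commute_trans (hYns tb) (hYC tb).symm hYC'.symm
      have hm := congrArg (Units.val (α := (Matrix (Fin 2) (Fin 2) F))) hCC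
      have e00 := congrFun (congrFun hm 0) 0
      have e10 := congrFun (congrFun hm 1) 0
      simp [hC, Matrix.mul_apply] at e00 e10
      have htb : tb = tb' := Subtype.ext
        (Prod.ext (by linear_combination e10)
          (by linear_combination (-1 : F) * e00))
      rw [htb]
    · exact absurd h (hYD tb v)
    · exact absurd h.symm (hUD Q u)
    · exact absurd h.symm (hYD tb' u)
    · rfl
  have hlow : Fintype.card ((Option F ⊕ Irr) ⊕ Unit) ≤ 𝓐.card :=
    Finset.card_le_card_of_injOn (s := Finset.univ) f (fun i _ => hf i) hinj.injOn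
  -- the cover by Borel subgroups and nonsplit tori
  have hup := h𝓐.2.1 (Finset.univ.image (Sum.elim B T)) ⟨?_, ?_⟩
  · have h1 : (Finset.univ.image (Sum.elim B T)).card ≤ Fintype.card (Option F ⊕ Irr) :=
      Finset.card_image_le
    rw [Fintype.card_sum (α := Option F ⊕ Irr), Fintype.card_unit] at hlow
    omega
  · intro A hA
    obtain ⟨i, -, rfl⟩ := Finset.mem_image.1 hA
    rcases i with P | tb <;> intro htop
    · have hall : ∀ z : ↥G, z ∈ B P := fun z => by
        rw [show B P = ⊤ from htop]; exact Subgroup.mem_top _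
      have h1 := hUU none P (hall _)
      have h2 := hUU (some 0) P (hall _)
      rw [← h1] at h2
      cases h2
    · have h1 : uEl none ∈ T tb := by rw [show T tb = ⊤ from htop]; exact Subgroup.mem_top _
      obtain ⟨g, hg, e⟩ := h1
      obtain ⟨c, hc⟩ := proj_eq_iff.1 e
      refine hCU none tb (Units.ext ?_)
      show (U none : (Matrix (Fin 2) (Fin 2) F)) * (C tb : (Matrix (Fin 2) (Fin 2) F)) = (C tb : (Matrix (Fin 2) (Fin 2) F)) * (U none : (Matrix (Fin 2) (Fin 2) F))
      rw [hc, Matrix.smul_mul, Matrix.mul_smul]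
      exact congrArg ((c : F) • ·) (congrArg Units.val (Subgroup.mem_centralizer_singleton_iff.1 hg))
  · rintro ⟨q, hq'⟩
    obtain ⟨g, rfl⟩ := QuotientGroup.mk'_surjective (Subgroup.center (GL (Fin 2) F)) q
    by_cases h10 : (g : (Matrix (Fin 2) (Fin 2) F)) 1 0 = 0
    · refine ⟨B none, Finset.mem_image_of_mem _ (Finset.mem_univ (Sum.inl none)), ?_⟩
      rw [hB, mem_colStab_two]
      simpa [pointGL] using h10
    · by_cases hroot : ∃ μ : F, μ * μ = ((g : (Matrix (Fin 2) (Fin 2) F)) 0 0 - (g : (Matrix (Fin 2) (Fin 2) F)) 1 1) / (g : (Matrix (Fin 2) (Fin 2) F)) 1 0 * μ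
          + (g : (Matrix (Fin 2) (Fin 2) F)) 0 1 / (g : (Matrix (Fin 2) (Fin 2) F)) 1 0
      · obtain ⟨μ, hμ⟩ := hroot
        refine ⟨B (some μ), Finset.mem_image_of_mem _ (Finset.mem_univ (Sum.inl (some μ))), ?_⟩
        rw [hB, mem_colStab_two, conj_point_entry]
        field_simp at hμ
        linear_combination hμ
      · push Not at hroot
        refine ⟨T ⟨(_, _), hroot⟩, Finset.mem_image_of_mem _ (Finset.mem_univ (Sum.inr _)), ?_⟩
        refine Subgroup.mem_map_of_mem _ (Subgroup.mem_centralizer_singleton_iff.2 (Units.ext ?_))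
        rw [Units.val_mul, Units.val_mul, hC]
        ext i j
        fin_cases i <;> fin_cases j <;> simp [Matrix.mul_apply] <;> field_simp <;> ring

include hG in
theorem no_minimal_cover_two (hF : 4 ≤ Fintype.card F) :
    ¬ ∃ 𝓐 : Finset (Subgroup ↥G), MinimalNilpotentCover 𝓐 := by
  by_cases h : ∃ r, r.Prime ∧ r ≠ 2 ∧ r ∣ Fintype.card F - 1
  · obtain ⟨r, hr, hr2, hd⟩ := h
    have := Fact.mk hr
    exact no_minimal_cover_two_split G hG r hr2 hd
  · push Not at h
    obtain ⟨k, hk⟩ : ∃ k, Fintype.card F - 1 = 2 ^ k :=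
      ⟨_, Nat.eq_prime_pow_of_unique_prime_dvd (by omega) fun {d} hd hdvd =>
        Classical.byContradiction fun hne => h d hd hne hdvd⟩
    refine no_minimal_cover_two_fermat G hG k ?_ (by omega)
    by_contra hk2
    interval_cases k <;> omega

end CfsgLib.NilpotentCover.Projective
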