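import Cfsg.Agent.NilpotentCover.AbelianSylow

/-!
Obstruction to minimal nilpotent covers from a prime dividing the group order exactly once.
-/

set_option autoImplicit false

namespace CfsgLib.NilpotentCover

open Subgroup

/-- If the prime `p` divides `|G|` at most once, and `x`, `y` are non-commuting `p`-elements whose
centralizers lie in one proper subgroup, there is no minimal cover by nilpotent subgroups. -/
theorem not_exists_of_simple_prime {G : Type*} [Group G] [Finite G] (p : ℕ) [hp : Fact p.Prime]
    (hG : ¬ p ^ 2 ∣ Nat.card G) {M : Subgroup G} (hM : M ≠ ⊤) (x y : G)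
    (hx : orderOf x = p) (hy : orderOf y = p)
    (hxM : ∀ c : G, c * x = x * c → c ∈ M) (hyM : ∀ c : G, c * y = y * c → c ∈ M)
    (hne : x * y ≠ y * x) :
    ¬ ∃ 𝓐 : Finset (Subgroup G), MinimalNilpotentCover 𝓐 := by
  obtain ⟨P⟩ : Nonempty (Sylow p G) := Sylow.nonempty
  obtain ⟨n, hn⟩ := IsPGroup.iff_card.1 P.isPGroup'
  have hn1 : n < 2 := by
    by_contra hn2
    refine hG ((pow_dvd_pow p (by omega : 2 ≤ n)).trans ?_)
    rw [← hn]
    exact Subgroup.card_subgroup_dvd_card _
  have hab : IsMulCommutative ↥(P : Subgroup G) := by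
    interval_cases n
    · have : Subsingleton ↥(P : Subgroup G) :=
        (Nat.card_eq_one_iff_unique.1 (by rw [hn, pow_zero])).1
      exact ⟨⟨fun a b => Subsingleton.elim _ _⟩⟩
    · exact (isCyclic_of_prime_card (hn.trans (pow_one p))).isMulCommutative
  have key : ∀ (z : G), orderOf z = p → (∀ c : G, c * z = z * c → c ∈ M) →
      ∀ A : Subgroup G, Group.IsNilpotent ↥A → z ∈ A → A ≤ M := fun z hz hzM A hA hzA a ha =>
    hzM a (mem_centralizer_singleton_iff.1
      (le_centralizer_of_pElement hab hA hzA ⟨1, by rw [hz, pow_one]⟩ ha))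
  refine not_exists_of_pair hM x y (key x hx hxM) (key y hy hyM) fun A hA hxA hyA => hne ?_
  exact mem_centralizer_singleton_iff.1
    (le_centralizer_of_pElement hab hA hyA ⟨1, by rw [hy, pow_one]⟩ hxA)

end CfsgLib.NilpotentCover
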